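import Cfsg.Agent.S0205
import Cfsg.Agent.Lib.Invol.BrauerSuzuki
import Cfsg.Agent.Lib.Comp.Signalizer

/-!
`π`-homogeneous groups all of whose `π`-subgroups are 2-closed: the setting of a minimal
counterexample to `π'`-closure, and first consequences.
-/

set_option autoImplicit false
set_option linter.style.haveILetI false
set_option linter.unusedVariables false
set_option linter.unusedSectionVars false

universe u

namespace CfsgLib.Invol.PiClosed

open Subgroup

variable {G : Type u} [Group G]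

/-- A `π'`-element. -/
def Pie (π : Set ℕ) (x : G) : Prop := ∀ p : ℕ, p.Prime → p ∣ orderOf x → p ∉ π

/-- A `π`-subgroup. -/
def PiSub (π : Set ℕ) (H : Subgroup G) : Prop := ∀ p : ℕ, p.Prime → p ∣ Nat.card H → p ∈ π

/-- `π'`-closure. -/
def Closed (π : Set ℕ) (G : Type u) [Group G] : Prop := ∃ K : Subgroup G, ∀ x : G, x ∈ K ↔ Pie π x

/-- The subgroup generated by the `π'`-elements of `U`. -/
def kOf (π : Set ℕ) (U : Subgroup G) : Subgroup G := closure {x | x ∈ U ∧ Pie π x}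

/-- A minimal counterexample. -/
structure Setting (π : Set ℕ) (G : Type u) [Group G] [Finite G] : Prop where
  h2 : 2 ∈ π
  hcl : ∀ H : Subgroup G, PiSub π H → ∀ P : Sylow 2 ↥H, (P : Subgroup ↥H).Normal
  hom : ∀ H : Subgroup G, H ≠ ⊥ → PiSub π H → ∀ x ∈ normalizer (H : Set G), Pie π x →
    ∀ h ∈ H, x * h = h * x
  simple : IsSimpleGroup G
  noncomm : ¬ IsMulCommutative G
  proper : ∀ U : Subgroup G, U ≠ ⊤ → Closed π ↥U

variable {π : Set ℕ}

theorem pie_map {K : Type u} [Group K] (f : G →* K) {x : G} (hx : Pie π x) : Pie π (f x) :=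
  fun p hp hd => hx p hp (hd.trans (orderOf_map_dvd f x))

theorem pie_conj {x : G} (g : G) (hx : Pie π x) : Pie π (g * x * g⁻¹) := by
  simpa using pie_map (MulAut.conj g).toMonoidHom hx

theorem odd_of_pie (h2 : 2 ∈ π) [Finite G] {x : G} (hx : Pie π x) : Odd (orderOf x) :=
  Nat.not_even_iff_odd.1 fun he => hx 2 Nat.prime_two (even_iff_two_dvd.1 he) h2

theorem piSub_mono {H K : Subgroup G} (h : H ≤ K) (hK : PiSub π K) : PiSub π H :=
  fun p hp hd => hK p hp (hd.trans (card_dvd_of_le h))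

theorem piSub_two (h2 : 2 ∈ π) [Finite G] {H : Subgroup G} (hH : IsPGroup 2 H) : PiSub π H := by
  intro p hp hd
  obtain ⟨n, hn⟩ := IsPGroup.iff_card.1 hH
  rw [hn] at hd
  rwa [(Nat.prime_dvd_prime_iff_eq hp Nat.prime_two).1 (hp.dvd_of_dvd_pow hd)]

theorem isPGroup_of_invol {x : G} (hx : orderOf x = 2) : IsPGroup 2 (zpowers x) :=
  IsPGroup.of_card (n := 1) (by rw [Nat.card_zpowers, hx, pow_one])

theorem commute_of_normal_of_disjoint {A B U : Subgroup G} (hA : U ≤ normalizer (A : Set G))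
    (hB : U ≤ normalizer (B : Set G)) (hAU : A ≤ U) (hBU : B ≤ U) (h : A ⊓ B = ⊥) {a b : G}
    (ha : a ∈ A) (hb : b ∈ B) : a * b = b * a := by
  have h1 : a * b * a⁻¹ * b⁻¹ ∈ A ⊓ B := by
    refine mem_inf.2 ⟨?_, ?_⟩
    · rw [show a * b * a⁻¹ * b⁻¹ = a * (b * a⁻¹ * b⁻¹) by group]
      exact A.mul_mem ha ((mem_normalizer_iff.1 (hA (hBU hb)) _).1 (A.inv_mem ha))
    · exact B.mul_mem ((mem_normalizer_iff.1 (hB (hAU ha)) _).1 hb) (B.inv_mem hb)
  rw [h, mem_bot, mul_inv_eq_one, mul_inv_eq_iff_eq_mul] at h1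
  exact h1

namespace Setting

variable [Finite G] (hs : Setting π G)

include hs

theorem card_not_odd : ¬ Odd (Nat.card G) := fun h => by
  haveI := hs.simple
  haveI : Group.IsSolvable G := Cfsg.Agent.S0205.result h
  exact hs.noncomm ⟨⟨fun a b => IsSimpleGroup.comm_iff_isSolvable.2 inferInstance a b⟩⟩

theorem eq_bot_of_normal {N : Subgroup G} (hN : N.Normal) (h : N ≠ ⊤) : N = ⊥ := by
  haveI := hs.simple
  exact (hN.eq_bot_or_eq_top).resolve_right h

theorem center_bot : center G = ⊥ :=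
  hs.eq_bot_of_normal inferInstance fun h => hs.noncomm
    ⟨⟨fun a b => mem_center_iff.1 (h.symm ▸ mem_top b : b ∈ center G) a⟩⟩

theorem cent_ne_top {a : G} (ha : a ≠ 1) : centralizer ({a} : Set G) ≠ ⊤ := fun h => ha (by
  have : a ∈ center G := mem_center_iff.2 fun g =>
    mem_centralizer_singleton_iff.1 (h.symm ▸ mem_top g : g ∈ centralizer ({a} : Set G))
  rwa [hs.center_bot, mem_bot] at this)

theorem normalizer_ne_top {X : Subgroup G} (h : X ≠ ⊥) (h' : X ≠ ⊤) :
    normalizer (X : Set G) ≠ ⊤ := fun e =>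
  h (hs.eq_bot_of_normal (normalizer_eq_top_iff.1 e) h')

theorem ne_top_of_odd {X : Subgroup G} (h : Odd (Nat.card X)) : X ≠ ⊤ := fun e =>
  hs.card_not_odd (by rw [e, card_top] at h; exact h)

theorem ne_top_of_comm {X : Subgroup G} (h : ∀ a ∈ X, ∀ b ∈ X, a * b = b * a) : X ≠ ⊤ := fun e =>
  hs.noncomm ⟨⟨fun a b => h a (e ▸ mem_top a) b (e ▸ mem_top b)⟩⟩

theorem ne_top_of_two {X : Subgroup G} (h : IsPGroup 2 X) : X ≠ ⊤ := fun e => by
  haveI := hs.simple
  haveI : Nontrivial G := IsSimpleGroup.toNontrivial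
  have hG : IsPGroup 2 G := (e ▸ h).of_equiv Subgroup.topEquiv
  have := hG.center_nontrivial
  rw [hs.center_bot] at this
  exact not_nontrivial_iff_subsingleton.2 inferInstance this

theorem kOf_le (U : Subgroup G) : kOf π U ≤ U := (closure_le _).2 fun x hx => hx.1

theorem mem_kOf {U : Subgroup G} (hU : U ≠ ⊤) {x : G} :
    x ∈ kOf π U ↔ x ∈ U ∧ Pie π x := by
  obtain ⟨K, hK⟩ := hs.proper U hU
  have key : kOf π U = K.map U.subtype := by
    refine le_antisymm ((closure_le _).2 fun y hy => ⟨⟨y, hy.1⟩, (hK _).2 ?_, rfl⟩) ?_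
    · exact fun p hp hd => hy.2 p hp (by rwa [Subgroup.orderOf_mk] at hd)
    · rintro _ ⟨⟨y, hy⟩, hyK, rfl⟩
      exact subset_closure ⟨hy, fun p hp hd => (hK _).1 hyK p hp (by rwa [Subgroup.orderOf_mk])⟩
  rw [key]
  constructor
  · rintro ⟨y, hy, rfl⟩
    exact ⟨y.2, fun p hp hd => (hK y).1 hy p hp (by rwa [U.subtype_apply, Subgroup.orderOf_coe] at hd)⟩
  · rintro ⟨h1, h2⟩
    exact ⟨⟨x, h1⟩, (hK _).2 fun p hp hd => h2 p hp (by rwa [Subgroup.orderOf_mk] at hd), rfl⟩

theorem kOf_prime {U : Subgroup G} (hU : U ≠ ⊤) {p : ℕ} (hp : p.Prime)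
    (hd : p ∣ Nat.card (kOf π U)) : p ∉ π := by
  haveI := Fact.mk hp
  obtain ⟨x, hx⟩ := exists_prime_orderOf_dvd_card' p hd
  refine ((hs.mem_kOf hU).1 x.2).2 p hp ?_
  rw [Subgroup.orderOf_coe, hx]

theorem kOf_odd {U : Subgroup G} (hU : U ≠ ⊤) : Odd (Nat.card (kOf π U)) :=
  Nat.not_even_iff_odd.1 fun he => hs.kOf_prime hU Nat.prime_two (even_iff_two_dvd.1 he) hs.h2

theorem le_normalizer_kOf (U : Subgroup G) :
    normalizer (U : Set G) ≤ normalizer (kOf π U : Set G) := by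
  refine CfsgLib.Comp.le_normalizer_of_conj_mem fun g hg x hx => ?_
  have : (kOf π U).map (MulAut.conj g).toMonoidHom ≤ kOf π U := by
    rw [kOf, MonoidHom.map_closure, closure_le]
    rintro _ ⟨y, hy, rfl⟩
    exact subset_closure ⟨(mem_normalizer_iff.1 hg y).1 hy.1, pie_conj g hy.2⟩
  exact this ⟨x, hx, rfl⟩

/-- The `π'`-elements of the normalizer of a `π`-group centralize it. -/
theorem kOf_centralizes {X : Subgroup G} (hX : X ≠ ⊥) (hπ : PiSub π X)
    (hN : normalizer (X : Set G) ≠ ⊤) {k : G} (hk : k ∈ kOf π (normalizer (X : Set G))) {x : G}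
    (hx : x ∈ X) : k * x = x * k :=
  hs.hom X hX hπ k ((hs.mem_kOf hN).1 hk).1 ((hs.mem_kOf hN).1 hk).2 x hx

/-- A proper subgroup is the product of its `π'`-part and a Sylow 2-normalizer. -/
theorem split {U : Subgroup G} (hU : U ≠ ⊤) (P : Sylow 2 ↥U) {u : G} (hu : u ∈ U) :
    ∃ k ∈ kOf π U, ∃ m ∈ U, m ∈ normalizer (((P : Subgroup ↥U).map U.subtype : Subgroup G) : Set G) ∧
      u = k * m := by
  let Kn : Subgroup ↥U := (kOf π U).subgroupOf U
  have hKn : ∀ x : ↥U, x ∈ Kn ↔ Pie π (x : G) := fun x => by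
    rw [Subgroup.mem_subgroupOf, hs.mem_kOf hU]
    exact ⟨And.right, fun h => ⟨x.2, h⟩⟩
  haveI : Kn.Normal := ⟨fun x hx g => (hKn _).2 (by
    simpa using pie_conj (g : G) ((hKn x).1 hx))⟩
  have hq : ∀ p : ℕ, p.Prime → p ∣ Kn.index → p ∈ π := by
    intro p hp hd
    by_contra hpπ
    haveI := Fact.mk hp
    let R : Sylow p ↥U := Classical.arbitrary _
    have hR : (R : Subgroup ↥U) ≤ Kn := fun x hx => (hKn x).2 fun q hq hdq => by
      rw [Subgroup.orderOf_coe] at hdq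
      obtain ⟨k, hk⟩ := R.isPGroup' ⟨x, hx⟩
      have h1 : x ^ p ^ k = 1 := congrArg Subtype.val hk
      rw [(Nat.prime_dvd_prime_iff_eq hq hp).1
        (hq.dvd_of_dvd_pow (hdq.trans (orderOf_dvd_of_pow_eq_one h1)))]
      exact hpπ
    exact R.not_dvd_index (hd.trans (index_dvd_of_le hR))
  have hcard : Nat.card Kn = Nat.card (kOf π U) := Nat.card_congr (subgroupOfEquivOfLe (hs.kOf_le U)).toEquiv
  have hcop : Nat.Coprime (Nat.card Kn) Kn.index := by
    refine Nat.coprime_of_dvd fun p hp h1 h3 => ?_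
    rw [hcard] at h1
    exact hs.kOf_prime hU hp h1 (hq p hp h3)
  obtain ⟨X, hX⟩ := exists_left_complement'_of_coprime hcop
  have hXi : Kn.index = Nat.card X := hX.index_eq_card
  let e : ↥U ⧸ Kn ≃* ↥(X.map U.subtype) :=
    hX.QuotientMulEquiv.trans (X.equivMapOfInjective U.subtype U.subtype_injective)
  have hπX : PiSub π (X.map U.subtype) := by
    intro p hp hd
    rw [card_map_of_injective U.subtype_injective, ← hXi] at hd
    exact hq p hp hd
  let P' : Sylow 2 (↥U ⧸ Kn) := P.mapSurjective (QuotientGroup.mk'_surjective Kn)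
  have hP' : (P' : Subgroup (↥U ⧸ Kn)).Normal := by
    have h1 : ((P' : Subgroup (↥U ⧸ Kn)).map e.toMonoidHom).Normal :=
      hs.hcl _ hπX (P'.mapSurjective (f := e.toMonoidHom) e.surjective)
    have h3 := h1.comap e.toMonoidHom
    rwa [comap_map_eq_self_of_injective e.injective] at h3
  have hN : ((P : Subgroup ↥U) ⊔ Kn).Normal := by
    rw [show (P : Subgroup ↥U) ⊔ Kn = (P' : Subgroup (↥U ⧸ Kn)).comap (QuotientGroup.mk' Kn) by
      rw [Sylow.coe_mapSurjective, comap_map_eq, QuotientGroup.ker_mk']]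
    exact hP'.comap _
  have htop : Kn ⊔ normalizer ((P : Subgroup ↥U) : Set ↥U) = ⊤ := by
    rw [← top_le_iff, ← Sylow.normalizer_sup_eq_top' P (le_sup_left : (P : Subgroup ↥U) ≤ (P : Subgroup ↥U) ⊔ Kn)]
    exact sup_le le_sup_right (sup_le (le_normalizer.trans le_sup_right) le_sup_left)
  have hu' : (⟨u, hu⟩ : ↥U) ∈ Kn ⊔ normalizer ((P : Subgroup ↥U) : Set ↥U) := by rw [htop]; exact mem_top _
  obtain ⟨k, hk, m, hm, hkm⟩ := mem_sup_of_normal_left.1 hu'
  refine ⟨k, hk, m, m.2, ?_, (congrArg Subtype.val hkm).symm⟩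
  exact le_normalizer_map U.subtype ⟨m, hm, rfl⟩

/-- A 2-subgroup of a proper subgroup moves into a given Sylow subgroup by a `π'`-element. -/
theorem absorb {U : Subgroup G} (hU : U ≠ ⊤) (P : Sylow 2 ↥U) {T : Subgroup G} (hT : T ≤ U)
    (hTp : IsPGroup 2 T) :
    ∃ k ∈ kOf π U, ∀ x ∈ T, k⁻¹ * x * k ∈ (P : Subgroup ↥U).map U.subtype := by
  have h1 : IsPGroup 2 (T.subgroupOf U) := hTp.of_equiv (subgroupOfEquivOfLe hT).symm
  obtain ⟨Q, hQ⟩ := h1.exists_le_sylow
  obtain ⟨g, hg⟩ := MulAction.exists_smul_eq ↥U P Q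
  obtain ⟨k, hk, m, hmU, hm, hkm⟩ := hs.split hU P g.2
  refine ⟨k, hk, fun x hx => ?_⟩
  have h3 : (⟨x, hT hx⟩ : ↥U) ∈ (Q : Subgroup ↥U) := hQ (mem_subgroupOf.2 hx)
  rw [← hg, Sylow.smul_def, Sylow.pointwise_smul_def, mem_pointwise_smul_iff_inv_smul_mem] at h3
  have h4 : (g : G)⁻¹ * x * g ∈ (P : Subgroup ↥U).map U.subtype := ⟨_, h3, by simp [MulAut.conj]⟩
  rw [hkm] at h4
  have h5 := (mem_normalizer_iff.1 hm _).1 h4
  rwa [show m * ((k * m)⁻¹ * x * (k * m)) * m⁻¹ = k⁻¹ * x * k by group] at h5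

/-- An element of order `2 ^ j` normalizing an odd cyclic `π`-subgroup centralizes it. -/
theorem commute_of_pi {y w : G} (hy : Odd (orderOf y)) (hyπ : PiSub π (zpowers y))
    (hw : IsPGroup 2 (zpowers w)) (hn : w ∈ normalizer (zpowers y : Set G)) : w * y = y * w := by
  set U := zpowers y ⊔ zpowers w with hU
  have hwn : zpowers w ≤ normalizer (zpowers y : Set G) := zpowers_le.2 hn
  have hπU : PiSub π U := fun p hp hd =>
    (hp.dvd_mul.1 (hd.trans (CfsgLib.Comp.card_sup_dvd_mul hwn))).elim (hyπ p hp)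
      (piSub_two hs.h2 hw p hp)
  have hwU : zpowers w ≤ U := le_sup_right
  obtain ⟨P, hP⟩ := (hw.of_equiv (subgroupOfEquivOfLe hwU).symm).exists_le_sylow
  have hPn := hs.hcl U hπU P
  have hwP : w ∈ (P : Subgroup ↥U).map U.subtype :=
    ⟨⟨w, hwU (mem_zpowers w)⟩, hP (mem_subgroupOf.2 (mem_zpowers w)), rfl⟩
  refine (commute_of_normal_of_disjoint (U := U) (A := zpowers y) (B := (P : Subgroup ↥U).map U.subtype)
    (sup_le le_normalizer hwn) ?_ le_sup_left (map_subtype_le _) ?_ (mem_zpowers y) hwP).symm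
  · intro g hg
    exact le_normalizer_map U.subtype ⟨⟨g, hg⟩, by rw [normalizer_eq_top (H := (P : Subgroup ↥U))]; exact mem_top _, rfl⟩
  · refine inf_eq_bot_of_coprime ?_
    rw [Nat.card_zpowers, card_map_of_injective U.subtype_injective]
    obtain ⟨n, hn⟩ := IsPGroup.iff_card.1 P.isPGroup'
    rw [hn]
    exact Nat.Coprime.pow_right _ hy.coprime_two_right

/-- An element of odd order inverted by an involution is a `π'`-element. -/
theorem pie_of_inverted {x u : G} (hx : Odd (orderOf x)) (hu : orderOf u = 2)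
    (hinv : u * x * u⁻¹ = x⁻¹) : Pie π x := by
  intro p hp hd hpπ
  set y := x ^ (orderOf x / p) with hy
  have hoy : orderOf y = p := orderOf_pow_orderOf_div (orderOf_pos x).ne' hd
  have hyinv : u * y * u⁻¹ = y⁻¹ := by rw [hy, ← conj_pow, hinv, inv_pow]
  have hyodd : Odd (orderOf y) := hoy ▸ hx.of_dvd_nat hd
  have hπy : PiSub π (zpowers y) := fun q hq hdq => by
    rw [Nat.card_zpowers, hoy] at hdq
    rwa [(Nat.prime_dvd_prime_iff_eq hq hp).1 hdq]
  have hn : u ∈ normalizer (zpowers y : Set G) := by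
    refine CfsgLib.Comp.le_normalizer_of_conj_mem (A := zpowers u) ?_ (mem_zpowers u)
    intro b hb z hz
    obtain ⟨j, rfl⟩ := hz
    obtain ⟨i, rfl⟩ := hb
    dsimp only
    rcases Int.even_or_odd i with ⟨c, hc⟩ | ⟨c, hc⟩
    · rw [show u ^ i = 1 by
        rw [hc, ← two_mul, zpow_mul]; simp [show u ^ (2 : ℤ) = 1 by
          rw [zpow_two, ← pow_two, ← hu, pow_orderOf_eq_one]]]
      simpa using zpow_mem (mem_zpowers y) j
    · rw [show u ^ i = u by
        rw [hc, zpow_add, zpow_mul, show u ^ (2 : ℤ) = 1 by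
          rw [zpow_two, ← pow_two, ← hu, pow_orderOf_eq_one], one_zpow, one_mul, zpow_one],
        ← conj_zpow, hyinv]
      exact zpow_mem (inv_mem (mem_zpowers y)) j
  have hc := hs.commute_of_pi hyodd hπy (isPGroup_of_invol hu) hn
  rw [hc, mul_inv_cancel_right] at hyinv
  have h2 : orderOf y ∣ 2 := orderOf_dvd_of_pow_eq_one (by
    rw [pow_two]; exact mul_eq_one_iff_eq_inv.2 hyinv)
  rcases (Nat.dvd_prime Nat.prime_two).1 h2 with h | h
  · exact hp.ne_one (hoy ▸ h)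
  · rw [h] at hyodd; exact absurd hyodd (by decide)

end Setting

end CfsgLib.Invol.PiClosed
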