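import Cfsg.Agent.Lib.Invol.PiClosed.Fusion

/-!
No proper subgroup containing the normalizer of a Sylow 2-subgroup contains the centralizers of its
involutions.
-/

set_option autoImplicit false
set_option linter.style.haveILetI false
set_option linter.unusedVariables false
set_option linter.unusedSectionVars false

universe u

namespace CfsgLib.Invol.PiClosed

open Subgroup

variable {G : Type u} [Group G] [Finite G] {π : Set ℕ}

theorem isPGroup_two_le_of_card {V : Subgroup G} {a b : G} (ha : a ∈ V) (hb : b ∈ V) (hab : a ≠ b)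
    (ha1 : a ≠ 1) (hb1 : b ≠ 1) : 3 ≤ Nat.card V := by
  classical
  have := Fintype.ofFinite V
  rw [Nat.card_eq_fintype_card]
  calc 3 = ({1, ⟨a, ha⟩, ⟨b, hb⟩} : Finset V).card := by
        rw [Finset.card_insert_of_notMem, Finset.card_insert_of_notMem, Finset.card_singleton]
        · simpa using fun h => hab h
        · simp only [Finset.mem_insert, Finset.mem_singleton, Subtype.ext_iff, OneMemClass.coe_one]
          rintro (h | h)
          · exact ha1 h.symm
          · exact hb1 h.symm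
    _ ≤ Fintype.card V := Finset.card_le_univ _

namespace Setting

variable (hs : Setting π G) (S : Sylow 2 G)

include hs

/-- Generation of an odd subgroup by the centralizers of a noncyclic 2-group. -/
theorem le_of_four {V X M : Subgroup G} (hV : Cfsg.IsElementaryAbelian 2 V) (h4 : 3 ≤ Nat.card V)
    (hX : Odd (Nat.card X)) (hVX : V ≤ normalizer (X : Set G))
    (hM : ∀ v ∈ V, v ≠ 1 → X ⊓ centralizer ({v} : Set G) ≤ M) : X ≤ M := by
  haveI := Fact.mk Nat.prime_two
  have hne : V ≠ ⊥ := fun h => by rw [h, card_bot] at h4; omega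
  rw [CfsgLib.Comp.eq_iSup_centralizer_hyperplane hV hne
    (fun h => Nat.not_even_iff_odd.2 hX (even_iff_two_dvd.2 h)) hVX]
  refine iSup_le fun B => ?_
  have hB : (B : Subgroup G) ≠ ⊥ := fun h => by
    have := B.2.2
    rw [h, relIndex_bot_left] at this
    omega
  obtain ⟨b, hb, hb1⟩ := CfsgLib.Comp.exists_mem_ne_one hB
  exact le_trans (inf_le_inf_left _ (centralizer_le (Set.singleton_subset_iff.2 hb)))
    (hM b (B.2.1 hb) hb1)

theorem false_of_embedded {M : Subgroup G} (hMt : M ≠ ⊤) (hSM : (S : Subgroup G) ≤ M)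
    (hNM : normalizer ((S : Subgroup G) : Set G) ≤ M)
    (hCS : ∀ t ∈ (S : Subgroup G), orderOf t = 2 → centralizer ({t} : Set G) ≤ M) : False := by
  classical
  haveI := Fact.mk Nat.prime_two
  let SM : Sylow 2 ↥M := S.subtype hSM

  -- involutions of `M` move into `S`
  have hinS : ∀ t ∈ M, orderOf t = 2 → ∃ m ∈ M, m * t * m⁻¹ ∈ (S : Subgroup G) := by
    intro t ht hto
    obtain ⟨k, hk, h⟩ := hs.absorb hMt SM (zpowers_le.2 ht) (isPGroup_of_invol hto)
    refine ⟨k⁻¹, inv_mem (hs.kOf_le M hk), ?_⟩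
    obtain ⟨y, hy, hyx⟩ := h t (mem_zpowers t)
    rw [inv_inv, ← hyx]
    exact mem_subgroupOf.1 hy
  have hconj_o : ∀ (g t : G), orderOf (g * t * g⁻¹) = orderOf t := fun g t =>
    (MulAut.conj g).orderOf_eq t
  have hcentconj : ∀ (g t x : G), x ∈ centralizer ({t} : Set G) →
      g * x * g⁻¹ ∈ centralizer ({g * t * g⁻¹} : Set G) := fun g t x hx => by
    rw [mem_centralizer_singleton_iff] at hx ⊢
    rw [show g * x * g⁻¹ * (g * t * g⁻¹) = g * (x * t) * g⁻¹ by group, hx]
    group
  have hCM : ∀ t ∈ M, orderOf t = 2 → centralizer ({t} : Set G) ≤ M := by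
    intro t ht hto x hx
    obtain ⟨m, hm, hms⟩ := hinS t ht hto
    have := hCS _ hms ((hconj_o m t).trans hto) (hcentconj m t x hx)
    have h2 := mul_mem (mul_mem (inv_mem hm) this) hm
    rwa [show m⁻¹ * (m * x * m⁻¹) * m = x by group] at h2
  have hmeet : ∀ g : G, ∀ t ∈ M, orderOf t = 2 → g * t * g⁻¹ ∈ M → g ∈ M := by
    intro g t ht hto hgt
    obtain ⟨m₁, hm₁, h₁⟩ := hinS t ht hto
    obtain ⟨m₂, hm₂, h₂⟩ := hinS _ hgt ((hconj_o g t).trans hto)
    obtain ⟨n, hn, hne⟩ := hs.fusion_elem S h₁ (v := m₂ * g * m₁⁻¹) (by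
      rwa [show m₂ * g * m₁⁻¹ * (m₁ * t * m₁⁻¹) * (m₂ * g * m₁⁻¹)⁻¹ = m₂ * (g * t * g⁻¹) * m₂⁻¹ by
        group])
    have hc : n⁻¹ * (m₂ * g * m₁⁻¹) ∈ M := hCS _ h₁ ((hconj_o m₁ t).trans hto) (by
      rw [mem_centralizer_singleton_iff]
      calc n⁻¹ * (m₂ * g * m₁⁻¹) * (m₁ * t * m₁⁻¹)
          = n⁻¹ * ((m₂ * g * m₁⁻¹) * (m₁ * t * m₁⁻¹) * (m₂ * g * m₁⁻¹)⁻¹) * (m₂ * g * m₁⁻¹) := by group
        _ = n⁻¹ * (n * (m₁ * t * m₁⁻¹) * n⁻¹) * (m₂ * g * m₁⁻¹) := by rw [hne]
        _ = m₁ * t * m₁⁻¹ * (n⁻¹ * (m₂ * g * m₁⁻¹)) := by group)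
    have h3 := mul_mem (mul_mem (inv_mem hm₂) (hNM hn)) (mul_mem hc hm₁)
    rwa [show m₂⁻¹ * n * (n⁻¹ * (m₂ * g * m₁⁻¹) * m₁) = g by group] at h3
  -- a `π'`-element of `M` inverted outside and centralized inside is trivial
  have hinj : ∀ c z u : G, c ∈ M → Pie π c → z ∈ M → orderOf z = 2 → z * c = c * z →
      orderOf u = 2 → u ∉ M → u * c * u⁻¹ = c⁻¹ → c = 1 := by
    intro c z u hcM hcp hz hzo hzc hu huM huc
    by_contra hc1
    set U := normalizer (zpowers c : Set G) with hUdef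
    have hU : U ≠ ⊤ := hs.normalizer_ne_top (zpowers_ne_bot.2 hc1) (hs.ne_top_of_comm
      fun a ha b hb => congrArg Subtype.val (mul_comm' (⟨a, ha⟩ : zpowers c) ⟨b, hb⟩))
    have hzU : z ∈ U := centralizer_le_normalizer _ (by
      rw [CfsgLib.Comp.centralizer_zpowers, mem_centralizer_singleton_iff]; exact hzc)
    have huU : u ∈ U := by
      refine CfsgLib.Comp.map_conj_eq_iff.1 ?_
      rw [MonoidHom.map_zpowers, MulEquiv.coe_toMonoidHom, MulAut.conj_apply, huc, zpowers_inv]
    obtain ⟨P, hP⟩ := ((isPGroup_of_invol hzo).of_equiv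
      (subgroupOfEquivOfLe (zpowers_le.2 hzU)).symm).exists_le_sylow
    set PG := (P : Subgroup ↥U).map U.subtype with hPG
    have hPG2 : IsPGroup 2 PG := P.isPGroup'.map _
    have hzP : z ∈ PG := ⟨⟨z, hzU⟩, hP (mem_subgroupOf.2 (mem_zpowers z)), rfl⟩
    obtain ⟨v, hv, hvP⟩ := hs.absorb hU P (zpowers_le.2 huU) (isPGroup_of_invol hu)
    set p := v⁻¹ * u * v with hp
    have hpP : p ∈ PG := hvP u (mem_zpowers u)
    have hpo : orderOf p = 2 := by
      rw [hp]; have := hconj_o v⁻¹ u; rw [inv_inv] at this; rw [this, hu]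
    -- `p` inverts `c`
    have hvU : v ∈ U := hs.kOf_le U hv
    have hpc : p * c * p⁻¹ = c⁻¹ := by
      obtain ⟨i, hi⟩ := mem_zpowers_iff.1 ((mem_normalizer_iff.1 hvU c).1 (mem_zpowers c))
      have h1 : v * c * v⁻¹ = c ^ i := hi.symm
      calc p * c * p⁻¹ = v⁻¹ * (u * (v * c * v⁻¹) * u⁻¹) * v := by rw [hp]; group
        _ = v⁻¹ * (v * c * v⁻¹)⁻¹ * v := by rw [h1, ← conj_zpow, huc, inv_zpow]
        _ = c⁻¹ := by group
    have hpz : p ≠ z := fun h => hc1 (by
      rw [h, hzc, mul_inv_cancel_right] at hpc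
      have h2 : orderOf c ∣ 2 := orderOf_dvd_of_pow_eq_one (by
        rw [pow_two]; exact mul_eq_one_iff_eq_inv.2 hpc)
      rcases (Nat.dvd_prime Nat.prime_two).1 h2 with h3 | h3
      · exact orderOf_eq_one_iff.1 h3
      · exact absurd (h3 ▸ odd_of_pie hs.h2 hcp) (by decide))
    haveI : Nontrivial PG := (nontrivial_iff_ne_bot _).2 fun h => by
      rw [h, mem_bot] at hzP; rw [hzP, orderOf_one] at hzo; exact absurd hzo (by decide)
    haveI := hPG2.center_nontrivial
    obtain ⟨k, hk0, hk⟩ := (hPG2.to_subgroup (center ↥PG)).nontrivial_iff_card.1 inferInstance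
    obtain ⟨⟨⟨y, hyP⟩, hyc⟩, hy⟩ := exists_prime_orderOf_dvd_card' (G := center ↥PG) 2
      (hk ▸ dvd_pow_self 2 hk0.ne')
    have hyo : orderOf y = 2 := by rwa [← Subgroup.orderOf_coe, Subgroup.orderOf_mk] at hy
    have hyc' : ∀ q ∈ PG, q * y = y * q := fun q hq =>
      congrArg Subtype.val (mem_center_iff.1 hyc ⟨q, hq⟩)
    have hyM : y ∈ M := hCM z hz hzo (mem_centralizer_singleton_iff.2 (hyc' z hzP).symm)
    have hpM : p ∈ M := hCM y hyM hyo (mem_centralizer_singleton_iff.2 (hyc' p hpP))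
    obtain ⟨x, hxP, hxM, hxo, hxy⟩ : ∃ x ∈ PG, x ∈ M ∧ orderOf x = 2 ∧ x ≠ y := by
      by_cases h : p = y
      · exact ⟨z, hzP, hz, hzo, fun h' => hpz (h.trans h'.symm)⟩
      · exact ⟨p, hpP, hpM, hpo, h⟩
    have hne1 : ∀ w : G, orderOf w = 2 → w ≠ 1 := fun w hw h => by
      rw [h, orderOf_one] at hw; exact absurd hw (by decide)
    have hsq : ∀ w : G, orderOf w = 2 → w * w = 1 := fun w hw => by
      rw [← pow_two, ← hw, pow_orderOf_eq_one]
    set V := closure ({x, y} : Set G) with hV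
    have hcomm : ∀ a ∈ ({x, y} : Set G), ∀ b ∈ ({x, y} : Set G), a * b = b * a := by
      simp only [Set.mem_insert_iff, Set.mem_singleton_iff]
      rintro a (rfl | rfl) b (rfl | rfl) <;>
        first | rfl | exact hyc' _ hxP | exact (hyc' _ hxP).symm
    haveI hVc : IsMulCommutative V := isMulCommutative_closure hcomm
    have hVe : Cfsg.IsElementaryAbelian 2 V := by
      refine ⟨hVc, fun a ha => ?_⟩
      induction ha using closure_induction with
      | mem w hw =>
        rcases hw with rfl | rfl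
        · rw [pow_two]; exact hsq _ hxo
        · rw [pow_two]; exact hsq _ hyo
      | one => exact one_pow 2
      | mul a b ha hb h1 h2 =>
        rw [(show Commute a b from congrArg Subtype.val (mul_comm' (⟨a, ha⟩ : V) ⟨b, hb⟩)).mul_pow,
          h1, h2, one_mul]
      | inv a ha h1 => rw [inv_pow, h1, inv_one]
    have hVU : V ≤ U := (closure_le _).2 (by
      rintro w (rfl | rfl)
      · exact map_subtype_le _ hxP
      · exact map_subtype_le _ hyP)
    have hVM : V ≤ M := (closure_le _).2 (by rintro w (rfl | rfl) <;> assumption)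
    have hvM : v ∈ M := hs.le_of_four hVe
      (isPGroup_two_le_of_card (subset_closure (Set.mem_insert _ _))
        (subset_closure (Set.mem_insert_of_mem _ rfl)) hxy (hne1 _ hxo) (hne1 _ hyo))
      (hs.kOf_odd hU) (hVU.trans (le_normalizer.trans (hs.le_normalizer_kOf U)))
      (fun w hw hw1 => inf_le_right.trans (hCM w (hVM hw) (orderOf_eq_prime (hVe.2 w hw) hw1))) hv
    refine huM ?_
    have := mul_mem (mul_mem hvM hpM) (inv_mem hvM)
    rwa [hp, show v * (v⁻¹ * u * v) * v⁻¹ = u by group] at this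
  -- counting
  have hE := hs.four_le_omegaCenter S
  obtain ⟨z, hzE, hz1⟩ := CfsgLib.Comp.exists_mem_ne_one (B := omegaCenter (S : Subgroup G))
    (fun h => by rw [h, card_bot] at hE; omega)
  have hzo : orderOf z = 2 := orderOf_eq_prime ((omegaCenter_elemAb _).2 z hzE) hz1
  have hzS : z ∈ (S : Subgroup G) := hzE.1
  have hzM : z ∈ M := hSM hzS
  set C := centralizer ({z} : Set G) with hC
  have hCle : C ≤ M := hCM z hzM hzo
  let φ : G ⧸ C → G := Quotient.lift (fun g => g * z * g⁻¹) (by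
    intro a b hab
    replace hab := QuotientGroup.leftRel_apply.1 hab
    rw [hC, mem_centralizer_singleton_iff] at hab
    calc a * z * a⁻¹ = a * (z * (a⁻¹ * b)) * b⁻¹ := by group
      _ = a * (a⁻¹ * b * z) * b⁻¹ := by rw [hab]
      _ = b * z * b⁻¹ := by group)
  have hφo : ∀ q, orderOf (φ q) = 2 := fun q =>
    QuotientGroup.induction_on q fun g => (hconj_o g z).trans hzo
  have hφi : Function.Injective φ := by
    intro a b
    induction a using QuotientGroup.induction_on with | _ a => ?_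
    induction b using QuotientGroup.induction_on with | _ b => ?_
    intro (h : a * z * a⁻¹ = b * z * b⁻¹)
    rw [QuotientGroup.eq, hC, mem_centralizer_singleton_iff]
    calc a⁻¹ * b * z = a⁻¹ * (b * z * b⁻¹) * b := by group
      _ = a⁻¹ * (a * z * a⁻¹) * b := by rw [h]
      _ = z * (a⁻¹ * b) := by group
  have hφM : ∀ g : G, φ (g : G ⧸ C) ∈ M ↔ g ∈ M := fun g =>
    ⟨fun h => hmeet g z hzM hzo h, fun h => mul_mem (mul_mem h hzM) (inv_mem h)⟩
  haveI := Fintype.ofFinite (G ⧸ C)
  haveI := Fintype.ofFinite (G ⧸ M)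
  set one : G ⧸ M := QuotientGroup.mk 1 with hone
  set X := Finset.univ.filter (fun q : G ⧸ C => φ q ∉ M) with hXdef
  set c := C.relIndex M with hcdef
  have hXM : ∀ q ∈ X, φ q ∉ M := fun q hq => by simpa [hXdef] using hq
  have hin : (Finset.univ.filter (fun q : G ⧸ C => φ q ∈ M)).card ≤ c := by
    rw [hcdef, relIndex, index_eq_card]
    let f : ↥M ⧸ C.subgroupOf M → G ⧸ C := Quotient.lift (fun m : ↥M => ((m : G) : G ⧸ C)) (by
      intro a b hab
      replace hab := QuotientGroup.leftRel_apply.1 hab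
      rw [mem_subgroupOf] at hab
      exact QuotientGroup.eq.2 (by simpa using hab))
    haveI := Fintype.ofFinite (↥M ⧸ C.subgroupOf M)
    rw [Nat.card_eq_fintype_card, ← Finset.card_univ]
    refine (Finset.card_le_card ?_).trans (Finset.card_image_le (f := f))
    intro q hq
    obtain ⟨g, rfl⟩ := QuotientGroup.mk_surjective q
    rw [Finset.mem_filter, hφM] at hq
    exact Finset.mem_image.2 ⟨QuotientGroup.mk ⟨g, hq.2⟩, Finset.mem_univ _, rfl⟩
  have hcard : (Finset.univ.erase one).card * c ≤ X.card := by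
    have h1 := Finset.card_filter_add_card_filter_not (s := (Finset.univ : Finset (G ⧸ C)))
      (fun q => φ q ∈ M)
    rw [← hXdef] at h1
    have h2 : Fintype.card (G ⧸ C) = Fintype.card (G ⧸ M) * c := by
      rw [← Nat.card_eq_fintype_card, ← Nat.card_eq_fintype_card, ← index_eq_card, ← index_eq_card,
        ← relIndex_mul_index hCle, mul_comm]
    rw [Finset.card_univ, h2] at h1
    rw [Finset.card_erase_of_mem (Finset.mem_univ _), Finset.card_univ, Nat.sub_one_mul]
    omega
  obtain ⟨g₀, hg₀⟩ : ∃ g : G, g ∉ M := by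
    by_contra h; push Not at h; exact hMt (top_le_iff.1 fun g _ => h g)
  have hne : (Finset.univ.erase one).Nonempty := ⟨(g₀ : G ⧸ M), Finset.mem_erase.2
    ⟨fun h => hg₀ (by rw [hone, QuotientGroup.eq] at h; simpa using h), Finset.mem_univ _⟩⟩
  obtain ⟨yq, hyq, hfib⟩ := Finset.exists_le_card_fiber_of_mul_le_card_of_maps_to
    (f := fun q => ((φ q : G) : G ⧸ M)) (n := c)
    (fun q hq => Finset.mem_erase.2 ⟨fun h => hXM q hq (by
      change ((φ q : G) : G ⧸ M) = one at h
      rw [hone, QuotientGroup.eq] at h; simpa using h), Finset.mem_univ _⟩) hne hcard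
  set F := X.filter (fun q => ((φ q : G) : G ⧸ M) = yq) with hF
  have hcpos : 0 < c := Nat.pos_of_ne_zero index_ne_zero_of_finite
  obtain ⟨q₀, hq₀⟩ := Finset.card_pos.1 (lt_of_lt_of_le hcpos hfib)
  set u := φ q₀ with hudef
  have huo : orderOf u = 2 := hφo q₀
  have huM : u ∉ M := hXM _ (Finset.mem_filter.1 hq₀).1
  have hsq : ∀ w : G, orderOf w = 2 → w * w = 1 := fun w hw => by
    rw [← pow_two, ← hw, pow_orderOf_eq_one]
  have hinv : ∀ w : G, orderOf w = 2 → w⁻¹ = w := fun w hw =>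
    inv_eq_of_mul_eq_one_right (hsq w hw)
  -- elements `a * b` in `M` for involutions in the same outer coset
  have hprod : ∀ a b : G, orderOf a = 2 → orderOf b = 2 → a ∉ M → a * b ∈ M →
      (a * b) ∈ M ∧ Pie π (a * b) ∧ a * (a * b) * a⁻¹ = (a * b)⁻¹ := by
    intro a b ha hb haM hab
    have hconj : a * (a * b) * a⁻¹ = (a * b)⁻¹ := by
      rw [mul_inv_rev, hinv a ha, hinv b hb, ← mul_assoc, hsq a ha, one_mul]
    refine ⟨hab, hs.pie_of_inverted ?_ ha hconj, hconj⟩
    refine Nat.not_even_iff_odd.1 fun he => haM ?_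
    set w := (a * b) ^ (orderOf (a * b) / 2) with hw
    have hwo : orderOf w = 2 := orderOf_pow_orderOf_div (orderOf_pos _).ne' (even_iff_two_dvd.1 he)
    refine hmeet a w (pow_mem hab _) hwo ?_
    rw [hw, ← conj_pow, hconj]
    exact pow_mem (inv_mem hab) _
  have hmemM : ∀ q ∈ F, u * φ q ∈ M := by
    intro q hq
    have h1 : ((u : G) : G ⧸ M) = ((φ q : G) : G ⧸ M) :=
      (Finset.mem_filter.1 hq₀).2.trans (Finset.mem_filter.1 hq).2.symm
    rw [QuotientGroup.eq, hinv u huo] at h1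
    exact h1
  set K := kOf π M with hK
  have hmemK : ∀ q ∈ F, u * φ q ∈ K := fun q hq => by
    obtain ⟨h1, h2, -⟩ := hprod u (φ q) huo (hφo q) huM (hmemM q hq)
    exact (hs.mem_kOf hMt).2 ⟨h1, h2⟩
  set CK := C.subgroupOf K with hCKdef
  have hFle : F.card ≤ CK.index := by
    haveI := Fintype.ofFinite (↥K ⧸ CK)
    rw [index_eq_card, Nat.card_eq_fintype_card]
    refine Finset.card_le_card_of_injOn
      (fun q => if h : u * φ q ∈ K then (QuotientGroup.mk (⟨u * φ q, h⟩ : ↥K)) else QuotientGroup.mk 1)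
      (fun q _ => Finset.mem_univ _) ?_
    intro a ha b hb hab
    simp only [dif_pos (hmemK a ha), dif_pos (hmemK b hb)] at hab
    rw [QuotientGroup.eq, hCKdef, mem_subgroupOf] at hab
    simp only [Subgroup.coe_mul, InvMemClass.coe_inv] at hab
    rw [show (u * φ a)⁻¹ * (u * φ b) = φ a * φ b by
      rw [mul_inv_rev, mul_assoc, inv_mul_cancel_left, hinv _ (hφo a)]] at hab
    have haM : φ a ∉ M := hXM _ (Finset.mem_filter.1 ha).1
    have habM : φ a * φ b ∈ M := hCle hab
    obtain ⟨-, h2, h3⟩ := hprod _ _ (hφo a) (hφo b) haM habM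
    have h4 := hinj _ z (φ a) habM h2 hzM hzo (mem_centralizer_singleton_iff.1 hab).symm
      (hφo a) haM h3
    exact hφi ((eq_inv_of_mul_eq_one_left h4).trans (hinv _ (hφo b)))
  have hlt : CK.index < c := by
    have hKM : K ≤ M := hs.kOf_le M
    haveI := Fintype.ofFinite (↥K ⧸ CK)
    rw [hcdef, relIndex, index_eq_card, index_eq_card]
    obtain ⟨n, hn, hne'⟩ := hs.exists_move S hzo hzS (fun s hs' => hzE.2.1 s hs')
    let f : ↥K ⧸ CK → ↥M ⧸ C.subgroupOf M :=
      Quotient.lift (fun k : ↥K => (QuotientGroup.mk (⟨(k : G), hKM k.2⟩ : ↥M))) (by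
        intro a b hab
        replace hab := QuotientGroup.leftRel_apply.1 hab
        rw [hCKdef, mem_subgroupOf] at hab
        exact QuotientGroup.eq.2 (mem_subgroupOf.2 (by simpa using hab)))
    haveI := Fintype.ofFinite (↥M ⧸ C.subgroupOf M)
    rw [Nat.card_eq_fintype_card, Nat.card_eq_fintype_card]
    refine Fintype.card_lt_of_injective_not_surjective f ?_ ?_
    · intro a b
      induction a using QuotientGroup.induction_on with | _ a => ?_
      induction b using QuotientGroup.induction_on with | _ b => ?_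
      intro (h : QuotientGroup.mk (⟨(a : G), hKM a.2⟩ : ↥M) = QuotientGroup.mk (⟨(b : G), hKM b.2⟩ : ↥M))
      rw [QuotientGroup.eq, mem_subgroupOf] at h
      exact QuotientGroup.eq.2 (mem_subgroupOf.2 (by simpa using h))
    · intro hsurj
      obtain ⟨q, hq⟩ := hsurj (QuotientGroup.mk ⟨n, hNM hn⟩)
      induction q using QuotientGroup.induction_on with | _ k => ?_
      change QuotientGroup.mk (⟨(k : G), hKM k.2⟩ : ↥M) = _ at hq
      rw [QuotientGroup.eq, mem_subgroupOf, hC] at hq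
      simp only [Subgroup.coe_mul, InvMemClass.coe_inv, mem_centralizer_singleton_iff] at hq
      have heq : n * z * n⁻¹ = (k : G) * z * (k : G)⁻¹ := by
        calc n * z * n⁻¹ = (k : G) * ((k : G)⁻¹ * n * z) * n⁻¹ := by group
          _ = (k : G) * (z * ((k : G)⁻¹ * n)) * n⁻¹ := by rw [hq]
          _ = _ := by group
      have hmem : (n * z * n⁻¹) * z ∈ K := by
        rw [heq, show (k : G) * z * (k : G)⁻¹ * z = (k : G) * (z * (k : G)⁻¹ * z) by group]
        refine mul_mem k.2 ?_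
        have hzN : z ∈ normalizer (K : Set G) := hs.le_normalizer_kOf M (le_normalizer hzM)
        have := (mem_normalizer_iff.1 hzN (k : G)⁻¹).1 (inv_mem k.2)
        rwa [hinv z hzo] at this
      have hmemE : (n * z * n⁻¹) * z ∈ omegaCenter (S : Subgroup G) :=
        mul_mem (omegaCenter_conj hn hzE) hzE
      have h1 := card_dvd_of_le (zpowers_le.2 hmem)
      rw [Nat.card_zpowers, orderOf_eq_prime ((omegaCenter_elemAb _).2 _ hmemE) (fun h =>
        hne' ((eq_inv_of_mul_eq_one_left h).trans (hinv z hzo)))] at h1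
      exact Nat.not_even_iff_odd.2 (hs.kOf_odd hMt) (even_iff_two_dvd.2 h1)
  exact absurd (lt_of_le_of_lt hFle hlt) (not_lt.2 hfib)

end Setting

end CfsgLib.Invol.PiClosed
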