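import Cfsg.Agent.Lib.Invol.PiClosed.Base

/-!
Fusion in a Sylow 2-subgroup is controlled by its normalizer, and its centre is not cyclic.
-/

set_option autoImplicit false
set_option linter.style.haveILetI false
set_option linter.unusedVariables false
set_option linter.unusedSectionVars false

universe u

namespace CfsgLib.Invol.PiClosed

open Subgroup

variable {G : Type u} [Group G] [Finite G] {π : Set ℕ}

namespace Setting

variable (hs : Setting π G) (S : Sylow 2 G)

include hs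

theorem exists_invol : ∃ t : G, orderOf t = 2 := by
  haveI := Fact.mk Nat.prime_two
  exact exists_prime_orderOf_dvd_card' 2
    (even_iff_two_dvd.1 (Nat.not_odd_iff_even.1 hs.card_not_odd))

theorem sylow_ne_bot : (S : Subgroup G) ≠ ⊥ := fun h => by
  obtain ⟨t, ht⟩ := hs.exists_invol
  obtain ⟨g, hg⟩ := (isPGroup_of_invol ht).exists_le_sylow
  have h1 := Sylow.card_eq_multiplicity g
  rw [← Sylow.card_eq_multiplicity S, h, card_bot] at h1
  have h2 := card_dvd_of_le hg
  rw [Nat.card_zpowers, ht, h1] at h2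
  exact absurd h2 (by decide)

/-- Conjugation between subsets of a Sylow 2-subgroup is induced by its normalizer. -/
theorem fusion {X : Subgroup G} (hX : X ≤ (S : Subgroup G)) {v : G}
    (hv : ∀ x ∈ X, v * x * v⁻¹ ∈ (S : Subgroup G)) :
    ∃ n ∈ normalizer ((S : Subgroup G) : Set G), ∀ x ∈ X, n * x * n⁻¹ = v * x * v⁻¹ := by
  induction hd : Nat.card (S : Subgroup G) - Nat.card X using Nat.strong_induction_on
    generalizing X v with
  | _ d ih =>
  subst hd
  set Y : Subgroup G := X.map (MulAut.conj v).toMonoidHom with hY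
  have hYS : Y ≤ (S : Subgroup G) := by rintro _ ⟨x, hx, rfl⟩; exact hv x hx
  have hcard : Nat.card Y = Nat.card X := card_map_of_injective (MulAut.conj v).injective
  by_cases hXS : X = (S : Subgroup G)
  · refine ⟨v, CfsgLib.Comp.map_conj_eq_iff.1
      (eq_of_le_of_card_ge (le_of_eq_of_le (by rw [← hXS]) hYS) ?_), fun x _ => rfl⟩
    rw [← hXS, ← hY, hcard]
  by_cases hX1 : X = ⊥
  · exact ⟨1, one_mem _, fun x hx => by rw [hX1, mem_bot] at hx; simp [hx]⟩
  have hgrow : ∀ Z : Subgroup G, Z ≤ (S : Subgroup G) → Nat.card Z = Nat.card X →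
      Nat.card X < Nat.card ↥((S : Subgroup G) ⊓ normalizer (Z : Set G)) := by
    intro Z hZ hc
    have hlt : Z.subgroupOf (S : Subgroup G) < ⊤ := lt_top_iff_ne_top.2 fun h => hXS
      (eq_of_le_of_card_ge hX (by rw [← hc]; exact le_of_eq (congrArg (fun H : Subgroup G => Nat.card H)
        (le_antisymm (subgroupOf_eq_top.1 h) hZ))))
    haveI := S.isPGroup'.isNilpotent
    have h1 := Group.normalizerCondition_of_isNilpotent _ hlt
    rw [← subgroupOf_normalizer_eq hZ] at h1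
    have h2 : Z < (S : Subgroup G) ⊓ normalizer (Z : Set G) := by
      refine lt_of_le_of_ne (le_inf hZ le_normalizer) fun he => ?_
      refine h1.ne ?_
      ext s
      rw [mem_subgroupOf, mem_subgroupOf]
      exact ⟨fun h => (le_normalizer h : (s : G) ∈ normalizer (Z : Set G)),
        fun h => he ▸ mem_inf.2 ⟨s.2, h⟩⟩
    rw [← hc]
    exact Set.ncard_lt_ncard h2 (Set.toFinite _)
  set T := (S : Subgroup G) ⊓ normalizer (X : Set G) with hT
  set T' := (S : Subgroup G) ⊓ normalizer (Y : Set G) with hT'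
  have hXlt : Nat.card X < Nat.card (S : Subgroup G) :=
    lt_of_lt_of_le (hgrow X hX rfl) (card_le_of_le inf_le_left)
  have hYne : Y ≠ ⊥ := fun h => hX1 ((map_eq_bot_iff_of_injective _ (MulAut.conj v).injective).1 h)
  have hU : normalizer (Y : Set G) ≠ ⊤ :=
    hs.normalizer_ne_top hYne (hs.ne_top_of_two (S.isPGroup'.to_le hYS))
  set U := normalizer (Y : Set G) with hUdef
  obtain ⟨P, hP⟩ := ((S.isPGroup'.to_le (inf_le_left : T' ≤ _)).of_equiv
    (subgroupOfEquivOfLe (inf_le_right : T' ≤ U)).symm).exists_le_sylow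
  have hTU : T.map (MulAut.conj v).toMonoidHom ≤ U := by
    rw [hUdef, hY, ← map_equiv_normalizer_eq X (MulAut.conj v)]
    exact map_mono inf_le_right
  obtain ⟨k, hk, hkT⟩ := hs.absorb hU P hTU ((S.isPGroup'.to_le (inf_le_left : T ≤ _)).map _)
  set PG := (P : Subgroup ↥U).map U.subtype with hPG
  obtain ⟨S', hS'⟩ := (P.isPGroup'.map U.subtype).exists_le_sylow
  obtain ⟨g, hg⟩ := MulAction.exists_smul_eq G S' S
  have hgS : ∀ x ∈ PG, g * x * g⁻¹ ∈ (S : Subgroup G) := fun x hx => by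
    rw [← hg, Sylow.smul_def, Sylow.pointwise_smul_def]
    exact ⟨x, hS' hx, rfl⟩
  have hT'P : T' ≤ PG := fun x hx =>
    ⟨⟨x, hx.2⟩, hP (mem_subgroupOf.2 hx), rfl⟩
  obtain ⟨n, hn, hnT⟩ := ih _ (Nat.sub_lt_sub_left hXlt (hgrow Y hYS hcard)) (inf_le_left : T' ≤ _)
    (v := g) (fun x hx => hgS x (hT'P hx)) rfl
  obtain ⟨n₁, hn₁, hn₁T⟩ := ih _ (Nat.sub_lt_sub_left hXlt (hgrow X hX rfl)) (inf_le_left : T ≤ _)
    (v := g * k⁻¹ * v) (fun x hx => by
      have := hgS _ (hkT _ ⟨x, hx, rfl⟩)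
      simpa [mul_assoc] using this) rfl
  refine ⟨n⁻¹ * n₁, mul_mem (inv_mem hn) hn₁, fun x hx => ?_⟩
  have hy : v * x * v⁻¹ ∈ Y := ⟨x, hx, rfl⟩
  have hk' : k * (v * x * v⁻¹) = v * x * v⁻¹ * k :=
    hs.kOf_centralizes hYne (piSub_two hs.h2 (S.isPGroup'.to_le hYS)) hU hk hy
  have h1 := hn₁T x ⟨hX hx, le_normalizer hx⟩
  have h2 := hnT _ (show v * x * v⁻¹ ∈ T' from ⟨hYS hy, le_normalizer hy⟩)
  calc n⁻¹ * n₁ * x * (n⁻¹ * n₁)⁻¹ = n⁻¹ * (n₁ * x * n₁⁻¹) * n := by group
    _ = n⁻¹ * (g * (k⁻¹ * (v * x * v⁻¹) * k) * g⁻¹) * n := by rw [h1]; group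
    _ = n⁻¹ * (g * (v * x * v⁻¹) * g⁻¹) * n := by
      rw [mul_assoc k⁻¹, ← hk', inv_mul_cancel_left]
    _ = v * x * v⁻¹ := by rw [← h2]; group

theorem fusion_elem {x : G} (hx : x ∈ (S : Subgroup G)) {v : G}
    (hv : v * x * v⁻¹ ∈ (S : Subgroup G)) :
    ∃ n ∈ normalizer ((S : Subgroup G) : Set G), n * x * n⁻¹ = v * x * v⁻¹ := by
  obtain ⟨n, hn, h⟩ := hs.fusion S (zpowers_le.2 hx) (v := v) fun y hy => by
    obtain ⟨i, rfl⟩ := hy
    dsimp only
    rw [← conj_zpow]
    exact zpow_mem hv i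
  exact ⟨n, hn, h x (mem_zpowers x)⟩

/-- No central involution of `S` is fixed by the normalizer of `S`. -/
theorem exists_move {z : G} (hz : orderOf z = 2) (hzS : z ∈ (S : Subgroup G))
    (hzc : ∀ s ∈ (S : Subgroup G), z * s = s * z) :
    ∃ n ∈ normalizer ((S : Subgroup G) : Set G), n * z * n⁻¹ ≠ z := by
  by_contra hall
  push Not at hall
  have hiso : Cfsg.IsIsolatedInvolution z := by
    refine ⟨hz, fun g hcom => ?_⟩
    set z' := g * z * g⁻¹ with hz'
    have hz'o : orderOf z' = 2 := (MulAut.conj g).orderOf_eq z ▸ hz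
    have hV : IsPGroup 2 ↥(zpowers z ⊔ zpowers z') := by
      refine (isPGroup_of_invol hz).to_sup_of_normal_right' (isPGroup_of_invol hz'o) ?_
      refine (zpowers_le.2 ?_).trans (centralizer_le_normalizer _)
      rw [CfsgLib.Comp.centralizer_zpowers]
      exact mem_centralizer_singleton_iff.2 hcom.eq
    obtain ⟨T, hT⟩ := hV.exists_le_sylow
    obtain ⟨h, hh⟩ := MulAction.exists_smul_eq G T S
    have hmem : ∀ w ∈ zpowers z ⊔ zpowers z', h * w * h⁻¹ ∈ (S : Subgroup G) := fun w hw => by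
      rw [← hh, Sylow.smul_def, Sylow.pointwise_smul_def]
      exact ⟨w, hT hw, rfl⟩
    have h1 : h * z * h⁻¹ = z := by
      obtain ⟨n, hn, hne⟩ := hs.fusion_elem S hzS (v := h) (hmem z (mem_sup_left (mem_zpowers z)))
      rw [← hne]; exact hall n hn
    have h2 : h * z' * h⁻¹ = z := by
      obtain ⟨n, hn, hne⟩ := hs.fusion_elem S hzS (v := h * g) (by
        have := hmem z' (mem_sup_right (mem_zpowers z'))
        rw [hz'] at this
        rwa [show h * g * z * (h * g)⁻¹ = h * (g * z * g⁻¹) * h⁻¹ by group])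
      rw [show h * z' * h⁻¹ = h * g * z * (h * g)⁻¹ by rw [hz']; group, ← hne]
      exact hall n hn
    exact mul_left_cancel (mul_right_cancel (h2.trans h1.symm))
  have hO : Cfsg.oddCore G = ⊥ :=
    hs.eq_bot_of_normal (CfsgLib.Solvable.pPrimeCore_normal 2 G)
      (hs.ne_top_of_odd (CfsgLib.Invol.odd_card_oddCore G))
  have hzc' : z ∈ center G := mem_center_iff.2 fun g => by
    have := CfsgLib.Invol.zstar G hiso g
    rw [hO, mem_bot, mul_inv_eq_one, mul_inv_eq_iff_eq_mul] at this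
    exact this.symm
  rw [hs.center_bot, mem_bot] at hzc'
  rw [hzc', orderOf_one] at hz
  exact absurd hz (by decide)

end Setting

/-- The involutions of the centre of `S`, with `1`. -/
def omegaCenter (S : Subgroup G) : Subgroup G where
  carrier := {x | x ∈ S ∧ (∀ s ∈ S, x * s = s * x) ∧ x * x = 1}
  one_mem' := ⟨one_mem S, fun s _ => by simp, one_mul 1⟩
  mul_mem' := fun {a b} ha hb => ⟨mul_mem ha.1 hb.1,
    fun s hs => by rw [mul_assoc, hb.2.1 s hs, ← mul_assoc, ha.2.1 s hs, mul_assoc],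
    by rw [show a * b * (a * b) = a * (b * a) * b by group, hb.2.1 a ha.1,
      show a * (a * b) * b = a * a * (b * b) by group, ha.2.2, hb.2.2, one_mul]⟩
  inv_mem' := fun {a} ha => by
    rw [show a⁻¹ = a from (eq_inv_of_mul_eq_one_left ha.2.2).symm]
    exact ha

theorem mem_omegaCenter {S : Subgroup G} {x : G} :
    x ∈ omegaCenter S ↔ x ∈ S ∧ (∀ s ∈ S, x * s = s * x) ∧ x * x = 1 := Iff.rfl

theorem omegaCenter_le (S : Subgroup G) : omegaCenter S ≤ S := fun _ h => h.1

theorem omegaCenter_conj {S : Subgroup G} {n : G} (hn : n ∈ normalizer (S : Set G)) {x : G}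
    (hx : x ∈ omegaCenter S) : n * x * n⁻¹ ∈ omegaCenter S := by
  refine ⟨(mem_normalizer_iff.1 hn x).1 hx.1, fun s hs => ?_, ?_⟩
  · have hs' : n⁻¹ * s * n ∈ S := (mem_normalizer_iff''.1 hn s).1 hs
    have h := congrArg (fun y => n * y * n⁻¹) (hx.2.1 _ hs')
    simp only [← mul_assoc, mul_inv_cancel, one_mul, mul_inv_cancel_right] at h
    simpa [mul_assoc] using h
  · rw [show n * x * n⁻¹ * (n * x * n⁻¹) = n * (x * x) * n⁻¹ by group, hx.2.2, mul_one,
      mul_inv_cancel]

theorem normalizer_le_normalizer_omegaCenter (S : Subgroup G) :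
    normalizer (S : Set G) ≤ normalizer (omegaCenter S : Set G) :=
  CfsgLib.Comp.le_normalizer_of_conj_mem fun _ hn _ hx => omegaCenter_conj hn hx

theorem omegaCenter_elemAb (S : Subgroup G) : Cfsg.IsElementaryAbelian 2 (omegaCenter S) :=
  ⟨⟨⟨fun a b => Subtype.ext (a.2.2.1 b b.2.1)⟩⟩, fun a ha => by rw [pow_two]; exact ha.2.2⟩

theorem Setting.four_le_omegaCenter (hs : Setting π G) (S : Sylow 2 G) :
    4 ≤ Nat.card (omegaCenter (S : Subgroup G)) := by
  haveI := Fact.mk Nat.prime_two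
  haveI : Nontrivial ↥(S : Subgroup G) := (nontrivial_iff_ne_bot _).2 (hs.sylow_ne_bot S)
  haveI := S.isPGroup'.center_nontrivial
  obtain ⟨k, hk0, hk⟩ := (S.isPGroup'.to_subgroup (center ↥(S : Subgroup G))).nontrivial_iff_card.1 inferInstance
  obtain ⟨⟨⟨z, hzS⟩, hzc⟩, hz⟩ := exists_prime_orderOf_dvd_card' (G := center ↥(S : Subgroup G)) 2
    (hk ▸ dvd_pow_self 2 hk0.ne')
  have hzo : orderOf z = 2 := by rwa [← Subgroup.orderOf_coe, Subgroup.orderOf_mk] at hz
  have hzc' : ∀ s ∈ (S : Subgroup G), z * s = s * z := fun s hs' =>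
    (congrArg Subtype.val (mem_center_iff.1 hzc ⟨s, hs'⟩)).symm
  obtain ⟨n, hn, hne⟩ := hs.exists_move S hzo hzS hzc'
  have hzE : z ∈ omegaCenter (S : Subgroup G) :=
    ⟨hzS, hzc', by rw [← pow_two, ← hzo, pow_orderOf_eq_one]⟩
  have hz'E := omegaCenter_conj hn hzE
  obtain ⟨j, hj⟩ := IsPGroup.iff_card.1 (CfsgLib.Comp.isPGroup_of_elemAb (omegaCenter_elemAb (S : Subgroup G)))
  rw [hj]
  rcases j with _ | _ | j
  · exfalso
    rw [pow_zero, card_eq_one] at hj
    rw [hj, mem_bot] at hzE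
    rw [hzE, orderOf_one] at hzo
    exact absurd hzo (by decide)
  · exfalso
    have h2 : zpowers z = omegaCenter (S : Subgroup G) :=
      eq_of_le_of_card_ge (zpowers_le.2 hzE) (by rw [Nat.card_zpowers, hzo, hj, zero_add, pow_one])
    classical
    rw [← h2, mem_zpowers_iff_mem_range_orderOf, hzo] at hz'E
    simp only [Finset.range_add_one, Finset.range_zero, Finset.image_insert, Finset.image_empty,
      Finset.mem_insert, Finset.notMem_empty, or_false, pow_one, pow_zero] at hz'E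
    rcases hz'E with h | h
    · exact hne h
    · rw [mul_inv_eq_one, mul_eq_left] at h
      rw [h, orderOf_one] at hzo
      exact absurd hzo (by decide)
  · calc 4 = 2 ^ 2 := rfl
      _ ≤ 2 ^ (j + 2) := Nat.pow_le_pow_right (by norm_num) (by omega)

end CfsgLib.Invol.PiClosed
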