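import Cfsg.Agent.Lib.Invol.PiClosed.Reduce

/-!
`π'`-closure against `π`-homogeneity, given the classification for dihedral type.
-/

set_option autoImplicit false
set_option linter.style.haveILetI false
set_option linter.unusedVariables false
set_option linter.unusedSectionVars false

universe u

namespace CfsgLib.Invol.PiClosed

open Subgroup

variable {G : Type u} [Group G] [Finite G] {π : Set ℕ}

theorem centralizer_subgroupOf_normal (H : Subgroup G) :
    ((centralizer (H : Set G)).subgroupOf (normalizer (H : Set G))).Normal := by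
  refine ⟨fun x hx g => mem_subgroupOf.2 (mem_centralizer_iff.2 fun h hh => ?_)⟩
  have h1 := mem_centralizer_iff.1 (mem_subgroupOf.1 hx) _ ((mem_normalizer_iff''.1 g.2 h).1 hh)
  have h2 := congrArg (fun y => (g : G) * y * (g : G)⁻¹) h1
  simp only [Subgroup.coe_mul, InvMemClass.coe_inv]
  calc h * ((g : G) * x * (g : G)⁻¹)
      = (g : G) * ((g : G)⁻¹ * h * g * x) * (g : G)⁻¹ := by group
    _ = (g : G) * (x * ((g : G)⁻¹ * h * g)) * (g : G)⁻¹ := h2
    _ = (g : G) * x * (g : G)⁻¹ * h := by group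

theorem closed_iff_hom (hGW : DihedralClassified.{u}) (h2 : 2 ∈ π)
    (hcl : ∀ H : Subgroup G, (∀ p : ℕ, p.Prime → p ∣ Nat.card ↥H → p ∈ π) →
      ∀ P : Sylow 2 ↥H, (P : Subgroup ↥H).Normal) :
    (∃ K : Subgroup G, ∀ x : G, x ∈ K ↔ ∀ p : ℕ, p.Prime → p ∣ orderOf x → p ∉ π) ↔
      (∀ H : Subgroup G, H ≠ ⊥ → (∀ p : ℕ, p.Prime → p ∣ Nat.card ↥H → p ∈ π) →
        ∀ p : ℕ, p.Prime →
          p ∣ (centralizer (H : Set G)).relIndex (normalizer (H : Set G)) → p ∈ π) := by
  constructor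
  · rintro ⟨K, hK⟩ H hH hπ p hp hd
    by_contra hpπ
    haveI := Fact.mk hp
    haveI := centralizer_subgroupOf_normal H
    obtain ⟨R⟩ := (inferInstance : Nonempty (Sylow p ↥(normalizer (H : Set G))))
    refine R.not_dvd_index (hd.trans (index_dvd_of_le ?_))
    intro r hr
    refine mem_subgroupOf.2 (mem_centralizer_iff.2 fun h hh => ?_)
    obtain ⟨k, hk⟩ := R.isPGroup' ⟨r, hr⟩
    have hrp : ∀ q : ℕ, q.Prime → q ∣ orderOf (r : G) → q ∉ π := fun q hq hdq => by
      have h1 : (r : G) ^ p ^ k = 1 := congrArg (fun z => ((z : ↥(normalizer (H : Set G))) : G)) (congrArg Subtype.val hk)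
      rw [(Nat.prime_dvd_prime_iff_eq hq hp).1
        (hq.dvd_of_dvd_pow (hdq.trans (orderOf_dvd_of_pow_eq_one h1)))]
      exact hpπ
    have hrK : (r : G) ∈ K := (hK _).2 hrp
    have hc1 : h * r * h⁻¹ * (r : G)⁻¹ ∈ K :=
      K.mul_mem ((hK _).2 (pie_conj h hrp)) (K.inv_mem hrK)
    have hc2 : h * r * h⁻¹ * (r : G)⁻¹ ∈ H := by
      rw [show h * r * h⁻¹ * (r : G)⁻¹ = h * ((r : G) * h⁻¹ * (r : G)⁻¹) by group]
      exact H.mul_mem hh ((mem_normalizer_iff.1 r.2 _).1 (H.inv_mem hh))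
    have hc : h * r * h⁻¹ * (r : G)⁻¹ = 1 := by
      rw [← orderOf_eq_one_iff, Nat.eq_one_iff_not_exists_prime_dvd]
      exact fun q hq hdq => (hK _).1 hc1 q hq hdq (hπ q hq (hdq.trans (H.orderOf_dvd_natCard hc2)))
    rw [mul_inv_eq_one, mul_inv_eq_iff_eq_mul] at hc
    exact hc
  · intro h
    refine closed_of_hom hGW h2 G hcl ?_
    intro H hH hπ x hx hxp a ha
    haveI := centralizer_subgroupOf_normal H
    have hm := Subgroup.pow_index_mem ((centralizer (H : Set G)).subgroupOf (normalizer (H : Set G)))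
      (⟨x, hx⟩ : ↥(normalizer (H : Set G)))
    rw [mem_subgroupOf, SubmonoidClass.coe_pow] at hm
    have hcop : Nat.Coprime (orderOf x)
        ((centralizer (H : Set G)).subgroupOf (normalizer (H : Set G))).index :=
      Nat.coprime_of_dvd fun p hp h1 h3 => hxp p hp h1 (h H hH hπ p hp h3)
    obtain ⟨k, hk⟩ := exists_pow_eq_self_of_coprime (x := x) hcop.symm
    have hxC : x ∈ centralizer (H : Set G) := hk ▸ pow_mem hm k
    exact (mem_centralizer_iff.1 hxC a ha).symm

end CfsgLib.Invol.PiClosed
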