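import Cfsg.Agent.Lib.Invol.PiClosed.Embedded
import Cfsg.Agent.Lib.Comp.SFT.Main

/-!
The 2-rank of a minimal counterexample is at most two.
-/

set_option autoImplicit false
set_option linter.style.haveILetI false
set_option linter.unusedVariables false
set_option linter.unusedSectionVars false

universe u

namespace CfsgLib.Invol.PiClosed

open Subgroup

variable {G : Type u} [Group G] [Finite G] {π : Set ℕ}

/-- An elementary abelian subgroup joined with the central involutions is elementary abelian. -/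
theorem elemAb_sup_omegaCenter {S A : Subgroup G} (hA : Cfsg.IsElementaryAbelian 2 A) (hAS : A ≤ S) :
    Cfsg.IsElementaryAbelian 2 (A ⊔ omegaCenter S) := by
  have hcomm : ∀ a ∈ (A : Set G) ∪ (omegaCenter S : Set G), ∀ b ∈ (A : Set G) ∪ (omegaCenter S : Set G),
      a * b = b * a := by
    rintro a (ha | ha) b (hb | hb)
    · exact congrArg Subtype.val (hA.1.is_comm.comm ⟨a, ha⟩ ⟨b, hb⟩)
    · exact (hb.2.1 a (hAS ha)).symm
    · exact ha.2.1 b (hAS hb)
    · exact ha.2.1 b hb.1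
  rw [sup_eq_closure]
  haveI hVc : IsMulCommutative (closure ((A : Set G) ∪ (omegaCenter S : Set G))) :=
    isMulCommutative_closure hcomm
  refine ⟨hVc, fun a ha => ?_⟩
  induction ha using closure_induction with
  | mem w hw => rcases hw with h | h
                · exact hA.2 w h
                · rw [pow_two]; exact h.2.2
  | one => exact one_pow 2
  | mul a b ha hb h1 h2 =>
    rw [(show Commute a b from congrArg Subtype.val
      (mul_comm' (⟨a, ha⟩ : closure ((A : Set G) ∪ (omegaCenter S : Set G))) ⟨b, hb⟩)).mul_pow,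
      h1, h2, one_mul]
  | inv a ha h1 => rw [inv_pow, h1, inv_one]

namespace Setting

variable (hs : Setting π G) (S : Sylow 2 G)

include hs

theorem false_of_rank {A : Subgroup G} (hA : Cfsg.IsElementaryAbelian 2 A) (hA8 : 8 ≤ Nat.card A)
    (hAS : A ≤ (S : Subgroup G)) : False := by
  haveI := Fact.mk Nat.prime_two
  set E := omegaCenter (S : Subgroup G) with hE
  have hES : E ≤ (S : Subgroup G) := omegaCenter_le _
  have hE3 : 3 ≤ Nat.card E := le_trans (by norm_num) (hs.four_le_omegaCenter S)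
  let θ : G → Subgroup G := fun a => kOf π (centralizer ({a} : Set G))
  set W : Subgroup G := ⨆ e : {e : G // e ∈ E ∧ e ≠ 1}, θ e with hW
  -- every elementary `B` containing `E` of order at least eight
  have hWB : ∀ B : Subgroup G, Cfsg.IsElementaryAbelian 2 B → 8 ≤ Nat.card B → E ≤ B →
      (∀ b ∈ B, b ≠ 1 → θ b ≤ W) ∧ Odd (Nat.card W) := by
    intro B hB h8 hEB
    have hcent : ∀ a ∈ B, ∀ b ∈ B, b ∈ centralizer ({a} : Set G) := fun a ha b hb =>
      mem_centralizer_singleton_iff.2 (congrArg Subtype.val (hB.1.is_comm.comm ⟨b, hb⟩ ⟨a, ha⟩))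
    have hθ : Cfsg.IsSolvableSignalizerFunctor 2 B θ := by
      refine ⟨⟨fun a _ _ => hs.kOf_le _, fun a _ ha => ?_, fun a ha ha1 b hb x hx => ?_, ?_⟩, ?_⟩
      · exact fun h => Nat.not_even_iff_odd.2 (hs.kOf_odd (hs.cent_ne_top ha)) (even_iff_two_dvd.2 h)
      · exact (mem_normalizer_iff.1 (hs.le_normalizer_kOf _ (le_normalizer (hcent a ha b hb))) x).1 hx
      · intro a ha ha1 b hb hb1 x hx
        obtain ⟨hx1, hx2⟩ := mem_inf.1 hx
        exact (hs.mem_kOf (hs.cent_ne_top hb1)).2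
          ⟨hx2, ((hs.mem_kOf (hs.cent_ne_top ha1)).1 hx1).2⟩
      · intro a _ ha
        exact Cfsg.Agent.S0205.result (hs.kOf_odd (hs.cent_ne_top ha))
    obtain ⟨-, hodd, hcap⟩ := CfsgLib.Comp.SFT.sft hB (by norm_num; exact h8) hθ
    set WB : Subgroup G := ⨆ b : {a : G // a ∈ B ∧ a ≠ 1}, θ b with hWBdef
    have hoddWB : Odd (Nat.card WB) :=
      Nat.not_even_iff_odd.1 fun h => hodd (even_iff_two_dvd.1 h)
    have hBn : B ≤ normalizer (WB : Set G) := CfsgLib.Comp.le_normalizer_of_conj_mem fun b hb x hx => by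
      have hle : WB.map (MulAut.conj b).toMonoidHom ≤ WB := by
        rw [hWBdef, Subgroup.map_iSup]
        refine iSup_le fun a => le_trans ?_
          (le_iSup (fun c : {a : G // a ∈ B ∧ a ≠ 1} => θ c) a)
        rintro _ ⟨y, hy, rfl⟩
        exact hθ.1.2.2.1 a a.2.1 a.2.2 b hb y hy
      exact hle ⟨x, hx, rfl⟩
    have hWW : WB ≤ W := hs.le_of_four (omegaCenter_elemAb _) hE3 hoddWB (hEB.trans hBn)
      fun e he he1 => by
        rw [hcap e (hEB he) he1]
        exact le_iSup (fun c : {e : G // e ∈ E ∧ e ≠ 1} => θ c) ⟨e, he, he1⟩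
    have hWle : W ≤ WB := iSup_le fun e =>
      le_iSup (fun c : {a : G // a ∈ B ∧ a ≠ 1} => θ c) ⟨e, hEB e.2.1, e.2.2⟩
    exact ⟨fun b hb hb1 => le_trans (le_iSup (fun c : {a : G // a ∈ B ∧ a ≠ 1} => θ c) ⟨b, hb, hb1⟩) hWW,
      (le_antisymm hWle hWW) ▸ hoddWB⟩
  set A₀ := A ⊔ E with hA₀
  have hA₀e : Cfsg.IsElementaryAbelian 2 A₀ := elemAb_sup_omegaCenter hA hAS
  have hA₀8 : 8 ≤ Nat.card A₀ := hA8.trans (card_le_of_le le_sup_left)
  -- every involution of `S` lies in such a subgroup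
  have hBt : ∀ t ∈ (S : Subgroup G), orderOf t = 2 → ∃ B : Subgroup G,
      Cfsg.IsElementaryAbelian 2 B ∧ 8 ≤ Nat.card B ∧ E ≤ B ∧ B ≤ (S : Subgroup G) ∧ t ∈ B := by
    intro t ht hto
    by_cases htE : t ∈ E
    · exact ⟨A₀, hA₀e, hA₀8, le_sup_right, sup_le hAS hES, mem_sup_right htE⟩
    have hTe : Cfsg.IsElementaryAbelian 2 (zpowers t) :=
      ⟨inferInstance, fun a ha => by
        obtain ⟨i, rfl⟩ := ha
        dsimp only
        rw [← zpow_natCast, ← zpow_mul, mul_comm, zpow_mul, zpow_natCast, ← hto, pow_orderOf_eq_one,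
          one_zpow]⟩
    refine ⟨zpowers t ⊔ E, elemAb_sup_omegaCenter hTe (zpowers_le.2 ht), ?_, le_sup_right,
      sup_le (zpowers_le.2 ht) hES, mem_sup_left (mem_zpowers t)⟩
    have hlt : E < zpowers t ⊔ E := lt_of_le_of_ne le_sup_right fun h =>
      htE (h.ge (mem_sup_left (mem_zpowers t)))
    obtain ⟨i, hi⟩ := IsPGroup.iff_card.1
      (CfsgLib.Comp.isPGroup_of_elemAb (elemAb_sup_omegaCenter hTe (zpowers_le.2 ht)))
    have h1 : Nat.card E < Nat.card ↥(zpowers t ⊔ E) := Set.ncard_lt_ncard hlt (Set.toFinite _)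
    have h4 := hs.four_le_omegaCenter S
    rw [← hE] at h4
    change 8 ≤ Nat.card ↥(zpowers t ⊔ omegaCenter (S : Subgroup G))
    rw [← hE] at hi ⊢
    rw [hi] at h1 ⊢
    rcases Nat.lt_or_ge i 3 with h | h
    · have : 2 ^ i ≤ 2 ^ 2 := Nat.pow_le_pow_right (by norm_num) (by omega)
      omega
    · exact le_trans (by norm_num) (Nat.pow_le_pow_right (by norm_num : 0 < 2) h)
  set N := normalizer (E : Set G) with hN
  have hWn : N ≤ normalizer (W : Set G) := CfsgLib.Comp.le_normalizer_of_conj_mem fun n hn x hx => by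
    have hle : W.map (MulAut.conj n).toMonoidHom ≤ W := by
      rw [hW, Subgroup.map_iSup]
      refine iSup_le fun e => ?_
      rintro _ ⟨y, hy, rfl⟩
      have he : n * (e : G) * n⁻¹ ∈ E := (mem_normalizer_iff.1 hn _).1 e.2.1
      have he1 : n * (e : G) * n⁻¹ ≠ 1 := fun h => e.2.2 (by simpa using h)
      refine le_iSup (fun c : {e : G // e ∈ E ∧ e ≠ 1} => θ c) ⟨_, he, he1⟩ ?_
      obtain ⟨h1, h2⟩ := (hs.mem_kOf (hs.cent_ne_top e.2.2)).1 hy
      refine (hs.mem_kOf (hs.cent_ne_top he1)).2 ⟨?_, pie_conj n h2⟩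
      rw [mem_centralizer_singleton_iff] at h1 ⊢
      show n * y * n⁻¹ * (n * (e : G) * n⁻¹) = n * (e : G) * n⁻¹ * (n * y * n⁻¹)
      rw [show n * y * n⁻¹ * (n * (e : G) * n⁻¹) = n * (y * e) * n⁻¹ by group, h1]
      group
    exact hle ⟨x, hx, rfl⟩
  -- the centralizer of an involution of `S` splits
  have hsplit : ∀ t ∈ (S : Subgroup G), orderOf t = 2 → ∀ x ∈ centralizer ({t} : Set G),
      ∃ k ∈ W, ∃ m ∈ N, x = k * m := by
    intro t ht hto x hx
    obtain ⟨B, hB, h8, hEB, hBS, htB⟩ := hBt t ht hto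
    have ht1 : t ≠ 1 := fun h => by rw [h, orderOf_one] at hto; exact absurd hto (by decide)
    set U := centralizer ({t} : Set G) with hU
    have hBU : B ≤ U := fun b hb =>
      mem_centralizer_singleton_iff.2 (congrArg Subtype.val (hB.1.is_comm.comm ⟨b, hb⟩ ⟨t, htB⟩))
    obtain ⟨P, hP⟩ := ((CfsgLib.Comp.isPGroup_of_elemAb hB).of_equiv
      (subgroupOfEquivOfLe hBU).symm).exists_le_sylow
    obtain ⟨k, hk, m, hmU, hm, hkm⟩ := hs.split (hs.cent_ne_top ht1) P hx
    refine ⟨k, (hWB B hB h8 hEB).1 t htB ht1 hk, m, ?_, hkm⟩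
    set PG := (P : Subgroup ↥U).map U.subtype with hPG
    have hBP : B ≤ PG := fun b hb => ⟨⟨b, hBU hb⟩, hP (mem_subgroupOf.2 hb), rfl⟩
    obtain ⟨S', hS'⟩ := (P.isPGroup'.map U.subtype).exists_le_sylow
    obtain ⟨g, hg⟩ := MulAction.exists_smul_eq G S' S
    have hgS : ∀ y ∈ PG, g * y * g⁻¹ ∈ (S : Subgroup G) := fun y hy => by
      rw [← hg, Sylow.smul_def, Sylow.pointwise_smul_def]
      exact ⟨y, hS' hy, rfl⟩
    obtain ⟨n₁, hn₁, h₁⟩ := hs.fusion S hBS (v := g) (fun b hb => hgS b (hBP hb))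
    obtain ⟨n₂, hn₂, h₂⟩ := hs.fusion S hBS (v := g * m) (fun b hb => by
      rw [show g * m * b * (g * m)⁻¹ = g * (m * b * m⁻¹) * g⁻¹ by group]
      exact hgS _ ((mem_normalizer_iff.1 hm b).1 (hBP hb)))
    refine CfsgLib.Comp.map_conj_eq_iff.1 (eq_of_le_of_card_ge ?_
      (le_of_eq (card_map_of_injective (MulAut.conj m).injective).symm))
    rintro _ ⟨e, he, rfl⟩
    show m * e * m⁻¹ ∈ E
    have he' : n₂ * e * n₂⁻¹ ∈ E := omegaCenter_conj hn₂ he
    set e' := n₁⁻¹ * (n₂ * e * n₂⁻¹) * n₁ with he'def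
    have he'E : e' ∈ E := by
      have := omegaCenter_conj (inv_mem hn₁) he'
      rwa [inv_inv] at this
    have h3 := h₁ e' (hEB he'E)
    rw [he'def, show n₁ * (n₁⁻¹ * (n₂ * e * n₂⁻¹) * n₁) * n₁⁻¹ = n₂ * e * n₂⁻¹ by group, ← he'def,
      h₂ e (hEB he)] at h3
    have h4 : m * e * m⁻¹ = e' := by
      calc m * e * m⁻¹ = g⁻¹ * (g * m * e * (g * m)⁻¹) * g := by group
        _ = g⁻¹ * (g * e' * g⁻¹) * g := by rw [h3]
        _ = e' := by group
    rwa [h4]
  by_cases hW1 : W = ⊥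
  · refine hs.false_of_embedded S (M := N) (hs.normalizer_ne_top (fun h => ?_)
      (hs.ne_top_of_two (S.isPGroup'.to_le hES)))
      (le_normalizer.trans (normalizer_le_normalizer_omegaCenter _))
      (normalizer_le_normalizer_omegaCenter _) fun t ht hto x hx => ?_
    · rw [h, card_bot] at hE3; omega
    · obtain ⟨k, hk, m, hm, rfl⟩ := hsplit t ht hto x hx
      rw [hW1, mem_bot] at hk
      rwa [hk, one_mul]
  · have hodd := (hWB A₀ hA₀e hA₀8 le_sup_right).2
    refine hs.false_of_embedded S (M := normalizer (W : Set G))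
      (hs.normalizer_ne_top hW1 (hs.ne_top_of_odd hodd))
      (le_normalizer.trans ((normalizer_le_normalizer_omegaCenter _).trans hWn))
      ((normalizer_le_normalizer_omegaCenter _).trans hWn) fun t ht hto x hx => ?_
    obtain ⟨k, hk, m, hm, rfl⟩ := hsplit t ht hto x hx
    exact mul_mem (le_normalizer hk) (hWn hm)

end Setting

end CfsgLib.Invol.PiClosed
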