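import Cfsg.Agent.Lib.Invol.PiClosed.RankHigh
import Cfsg.Agent.S1237
import Cfsg.Agent.S0949
import Cfsg.Agent.S0486
import Cfsg.Agent.Lib.Invol.UThreeFour.Recog
import Cfsg.Agent.Lib.Transfer.SimpleCount
import Cfsg.Agent.Lib.Invol.FusionBasics
import Cfsg.Agent.Lib.Pres.SLTwo

/-!
A minimal counterexample of 2-rank two does not exist, given the theorem of Gorenstein and Walter.
-/

set_option autoImplicit false
set_option linter.style.haveILetI false
set_option linter.unusedVariables false
set_option linter.unusedSectionVars false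

universe u

namespace CfsgLib.Invol.PiClosed

open Subgroup

/-- The classification of perfect groups with dihedral Sylow 2-subgroups. -/
def DihedralClassified : Prop :=
  ∀ (X : Type u) [Group X] [Finite X] [Group.IsPerfect X] (S : Sylow 2 X) (n : ℕ), 2 ≤ n →
    Nonempty ((S : Subgroup X) ≃* DihedralGroup n) →
    (∃ (F : Type) (_ : Field F) (_ : Fintype F), Odd (Fintype.card F) ∧ 3 < Fintype.card F ∧
        Nonempty (X ⧸ Cfsg.oddCore X ≃* Matrix.ProjectiveSpecialLinearGroup (Fin 2) F)) ∨
      Nonempty (X ⧸ Cfsg.oddCore X ≃* alternatingGroup (Fin 7))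

variable {G : Type u} [Group G] [Finite G] {π : Set ℕ}

theorem two_nsmul_zmod : ∀ z : ZMod (2 ^ 1) × ZMod (2 ^ 1), 2 • z = 0 := by decide

theorem isPGroup_three_of_pow {V : Subgroup G} (h : ∀ a ∈ V, a ^ 3 = 1) : IsPGroup 3 V :=
  fun a => ⟨1, Subtype.ext (by rw [pow_one]; exact h a a.2)⟩

namespace Setting

variable (hs : Setting π G) (S : Sylow 2 G)

include hs

/-- A normalizing element acts transitively on the central involutions, and `3` lies in `π`. -/
theorem three_cycle (h4 : Nat.card (omegaCenter (S : Subgroup G)) = 4) :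
    (∃ n ∈ normalizer ((S : Subgroup G) : Set G),
      ∀ s ∈ omegaCenter (S : Subgroup G), s ≠ 1 → ∀ t ∈ omegaCenter (S : Subgroup G), t ≠ 1 →
        ∃ k : ℕ, n ^ k * s * (n ^ k)⁻¹ = t) ∧ 3 ∈ π := by
  classical
  set E := omegaCenter (S : Subgroup G) with hE
  let T := {x : G // x ∈ E ∧ x ≠ 1}
  let N := normalizer ((S : Subgroup G) : Set G)
  let act : MulAction ↥N T :=
    { smul := fun n x => ⟨(n : G) * x.1 * (n : G)⁻¹, omegaCenter_conj n.2 x.2.1,
        fun h => x.2.2 (conj_eq_one_iff.1 h)⟩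
      one_smul := fun x => Subtype.ext (show ((1 : ↥N) : G) * x.1 * ((1 : ↥N) : G)⁻¹ = x.1 by simp)
      mul_smul := fun a b x => Subtype.ext
        (show ((a * b : ↥N) : G) * x.1 * ((a * b : ↥N) : G)⁻¹ =
          (a : G) * ((b : G) * x.1 * (b : G)⁻¹) * (a : G)⁻¹ by rw [Subgroup.coe_mul]; group) }
  letI := act
  have hsmul : ∀ (n : ↥N) (x : T), ((n • x : T) : G) = (n : G) * x.1 * (n : G)⁻¹ := fun _ _ => rfl
  haveI := Fintype.ofFinite T
  have hT : Fintype.card T = 3 := by
    haveI := Fintype.ofFinite E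
    have e : T ≃ {x : E // x ≠ 1} :=
      ⟨fun x => ⟨⟨x.1, x.2.1⟩, fun h => x.2.2 (congrArg Subtype.val h)⟩,
        fun x => ⟨x.1.1, x.1.2, fun h => x.2 (Subtype.ext h)⟩, fun _ => rfl, fun _ => rfl⟩
    rw [Fintype.card_congr e, Fintype.card_subtype_compl, Fintype.card_subtype_eq,
      ← Nat.card_eq_fintype_card, h4]
  have hmove : ∀ x : T, ∃ n : ↥N, n • x ≠ x := fun x => by
    obtain ⟨n, hn, hne⟩ := hs.exists_move S (orderOf_eq_prime
      ((omegaCenter_elemAb _).2 _ x.2.1) x.2.2) x.2.1.1 x.2.1.2.1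
    exact ⟨⟨n, hn⟩, fun h => hne (congrArg Subtype.val h)⟩
  have htrans : ∀ x y : T, ∃ n : ↥N, n • x = y := by
    intro x y
    by_contra hxy
    push Not at hxy
    obtain ⟨a, ha⟩ := hmove x
    obtain ⟨b, hb⟩ := hmove y
    have : Fintype.card T ≥ 4 := by
      calc 4 = ({x, a • x, y, b • y} : Finset T).card := by
            rw [Finset.card_insert_of_notMem, Finset.card_insert_of_notMem,
              Finset.card_insert_of_notMem, Finset.card_singleton]
            · simpa using fun h => hb h.symm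
            · simp only [Finset.mem_insert, Finset.mem_singleton, not_or]
              exact ⟨hxy a, fun h => hxy (b⁻¹ * a) (by rw [mul_smul, h, inv_smul_smul])⟩
            · simp only [Finset.mem_insert, Finset.mem_singleton, not_or]
              exact ⟨fun h => ha h.symm, fun h => hxy 1 (by rw [one_smul, h]),
                fun h => hxy b⁻¹ (by rw [h, inv_smul_smul])⟩
        _ ≤ _ := Finset.card_le_univ _
    omega
  haveI : MulAction.IsPretransitive ↥N T := ⟨htrans⟩
  set R := (MulAction.toPermHom ↥N T).range with hR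
  haveI : MulAction.IsPretransitive ↥R T := ⟨fun x y => by
    obtain ⟨n, hn⟩ := htrans x y
    exact ⟨⟨MulAction.toPermHom ↥N T n, n, rfl⟩, hn⟩⟩
  haveI : Nonempty T := Fintype.card_pos_iff.1 (by rw [hT]; norm_num)
  obtain ⟨x₀⟩ := (inferInstance : Nonempty T)
  have h3 : 3 ∣ Nat.card ↥R := by
    have := MulAction.index_stabilizer_of_transitive ↥R x₀
    rw [Nat.card_eq_fintype_card, hT] at this
    rw [← this]
    exact index_dvd_card _
  haveI := Fact.mk (by norm_num : Nat.Prime 3)
  obtain ⟨⟨σ, n, hn⟩, hσ⟩ := exists_prime_orderOf_dvd_card' 3 h3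
  have hσ' : orderOf σ = 3 := by rwa [← Subgroup.orderOf_coe] at hσ
  have hσ3 : σ ^ 3 = 1 := hσ' ▸ pow_orderOf_eq_one σ
  have hfix : ∀ x : T, σ x ≠ x := by
    intro x hx
    apply (show σ ≠ 1 from fun h => by rw [h, orderOf_one] at hσ'; exact absurd hσ' (by decide))
    refine Equiv.ext fun y => ?_
    by_contra hy
    replace hy : σ y ≠ y := by simpa using hy
    have hyx : y ≠ x := fun h => hy (h ▸ hx)
    have h1 : σ y ≠ x := fun h => hyx (σ.injective (h.trans hx.symm))
    have h2 : σ (σ y) ≠ σ y := fun h => hy (σ.injective h)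
    have h5 : σ (σ y) ≠ x := fun h => h1 (σ.injective (h.trans hx.symm))
    have h6 : σ (σ y) ≠ y := fun h => by
      have : σ (σ (σ y)) = y := by
        have := Equiv.congr_fun hσ3 y
        simpa [pow_succ] using this
      rw [h] at this
      exact hy this
    have : ({x, y, σ y, σ (σ y)} : Finset T).card ≤ 3 := hT ▸ Finset.card_le_univ _
    rw [Finset.card_insert_of_notMem, Finset.card_insert_of_notMem, Finset.card_insert_of_notMem,
      Finset.card_singleton] at this
    · omega
    · simpa using fun h => hy h.symm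
    · simp only [Finset.mem_insert, Finset.mem_singleton, not_or]
      exact ⟨fun h => hy h.symm, fun h => h6 h.symm⟩
    · simp only [Finset.mem_insert, Finset.mem_singleton, not_or]
      exact ⟨fun h => hyx h.symm, fun h => h1 h.symm, fun h => h5 h.symm⟩
  have hpow : ∀ (k : ℕ) (x : T), (((σ ^ k) x : T) : G) = (n : G) ^ k * x.1 * ((n : G) ^ k)⁻¹ :=
    fun k x => by
      rw [← hn, ← map_pow, MulAction.toPermHom_apply, MulAction.toPerm_apply, hsmul,
        SubmonoidClass.coe_pow]
  refine ⟨⟨n, n.2, fun s hs' hs1 t ht ht1 => ?_⟩, ?_⟩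
  · let x : T := ⟨s, hs', hs1⟩
    let y : T := ⟨t, ht, ht1⟩
    have h2 : σ (σ x) ≠ x := fun h => hfix x (by
      have := Equiv.congr_fun hσ3 x
      simp only [pow_succ, pow_zero, one_mul, Equiv.Perm.mul_apply, Equiv.Perm.one_apply] at this
      rwa [h] at this)
    have hall : y = x ∨ y = σ x ∨ y = σ (σ x) := by
      by_contra hc
      push Not at hc
      have : ({y, x, σ x, σ (σ x)} : Finset T).card ≤ 3 := hT ▸ Finset.card_le_univ _
      rw [Finset.card_insert_of_notMem, Finset.card_insert_of_notMem, Finset.card_insert_of_notMem,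
        Finset.card_singleton] at this
      · omega
      · simpa using fun h => hfix x (σ.injective h).symm
      · simp only [Finset.mem_insert, Finset.mem_singleton, not_or]
        exact ⟨fun h => hfix x h.symm, fun h => h2 h.symm⟩
      · simp only [Finset.mem_insert, Finset.mem_singleton, not_or]
        exact hc
    rcases hall with h | h | h
    · exact ⟨0, by rw [← hpow 0 x, pow_zero, Equiv.Perm.one_apply]; exact congrArg Subtype.val h.symm⟩
    · exact ⟨1, by rw [← hpow 1 x, pow_one]; exact congrArg Subtype.val h.symm⟩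
    · exact ⟨2, by rw [← hpow 2 x, pow_two, Equiv.Perm.mul_apply]; exact congrArg Subtype.val h.symm⟩
  · by_contra h3π
    obtain ⟨r, hr, a, ha⟩ : ∃ r : ℕ, ¬ 3 ∣ r ∧ ∃ a : ℕ, orderOf (n : G) = 3 ^ a * r := by
      refine ⟨orderOf (n : G) / 3 ^ (orderOf (n : G)).factorization 3,
        Nat.not_dvd_ordCompl (by norm_num) (orderOf_pos _).ne', (orderOf (n : G)).factorization 3,
        (Nat.ordProj_mul_ordCompl_eq_self _ 3).symm⟩
    have hpie : Pie π ((n : G) ^ r) := by
      intro q hq hd
      have h1 : ((n : G) ^ r) ^ 3 ^ a = 1 := by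
        rw [← pow_mul, mul_comm, ← ha, pow_orderOf_eq_one]
      rw [(Nat.prime_dvd_prime_iff_eq hq (by norm_num)).1
        (hq.dvd_of_dvd_pow (hd.trans (orderOf_dvd_of_pow_eq_one h1)))]
      exact h3π
    have hEne : E ≠ ⊥ := fun h => by rw [h, card_bot] at h4; omega
    have hcent := hs.hom E hEne (piSub_two hs.h2 (S.isPGroup'.to_le (omegaCenter_le _)))
      ((n : G) ^ r) (pow_mem (normalizer_le_normalizer_omegaCenter _ n.2) r) hpie x₀.1 x₀.2.1
    have h1 : (σ ^ r) x₀ = x₀ := Subtype.ext (by rw [hpow, hcent, mul_inv_cancel_right])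
    have h2 : σ ^ r = σ ^ (r % 3) := by rw [← hσ', pow_mod_orderOf]
    rw [h2] at h1
    rcases (show r % 3 = 1 ∨ r % 3 = 2 by omega) with h | h
    · rw [h, pow_one] at h1; exact hfix x₀ h1
    · rw [h, pow_two, Equiv.Perm.mul_apply] at h1
      have := Equiv.congr_fun hσ3 x₀
      simp only [pow_succ, pow_zero, one_mul, Equiv.Perm.mul_apply, Equiv.Perm.one_apply] at this
      rw [h1] at this
      exact hfix x₀ this

/-- An element of order three in `π` is not inverted. -/
theorem false_of_inverted_three (h3 : 3 ∈ π) {y u : G} (hy : orderOf y = 3) (hu : orderOf u = 2)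
    (h : u * y * u⁻¹ = y⁻¹) : False :=
  hs.pie_of_inverted (by rw [hy]; decide) hu h 3 (by norm_num) (by rw [hy]) h3

theorem false_of_card_sylow_three (h3 : 3 ∈ π) (hd : 3 ∣ Nat.card G) (hd' : ¬ 9 ∣ Nat.card G) :
    False := by
  haveI := Fact.mk (by norm_num : Nat.Prime 3)
  haveI := hs.simple
  obtain ⟨P⟩ := (inferInstance : Nonempty (Sylow 3 G))
  have hP : Nat.card (P : Subgroup G) = 3 := by
    obtain ⟨n, hn⟩ := IsPGroup.iff_card.1 P.isPGroup'
    have h1 := P.dvd_card_of_dvd_card hd
    rw [hn] at h1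
    have h2 := Subgroup.card_subgroup_dvd_card (P : Subgroup G)
    rw [hn] at h2
    rcases n with _ | _ | n
    · simp at h1
    · simpa using hn
    · exact absurd ((pow_dvd_pow 3 (show 2 ≤ n + 1 + 1 by omega)).trans h2) hd'
  haveI : IsCyclic (P : Subgroup G) := isCyclic_of_prime_card hP
  haveI : IsMulCommutative (P : Subgroup G) := inferInstance
  obtain ⟨y, hy⟩ := exists_prime_orderOf_dvd_card' (G := (P : Subgroup G)) 3 (by rw [hP])
  have hyo : orderOf (y : G) = 3 := by rwa [Subgroup.orderOf_coe]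
  have hPy : zpowers (y : G) = (P : Subgroup G) :=
    eq_of_le_of_card_ge (zpowers_le.2 y.2) (by rw [Nat.card_zpowers, hyo, hP])
  refine CfsgLib.Transfer.not_normalizer_le_centralizer hs.noncomm hd P fun n hn => ?_
  rw [← hPy, CfsgLib.Comp.centralizer_zpowers, mem_centralizer_singleton_iff]
  obtain ⟨q, hq, hq2⟩ := CfsgLib.Invol.exists_odd_pow n
  rw [← hPy] at hn
  have hmem := (mem_normalizer_iff.1 hn (y : G)).1 (mem_zpowers _)
  rw [mem_zpowers_iff] at hmem
  obtain ⟨i, hi⟩ := hmem
  have hy3 : (y : G) ^ (3 : ℤ) = 1 := by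
    rw [show (3 : ℤ) = ((3 : ℕ) : ℤ) by rfl, zpow_natCast]; exact orderOf_dvd_iff_pow_eq_one.1 hyo.dvd
  have hm : (y : G) ^ i = (y : G) ^ (i % 3) := by
    conv_lhs => rw [← Int.emod_add_mul_ediv i 3, zpow_add, zpow_mul, hy3, one_zpow, mul_one]
  rw [hm] at hi
  rcases (show i % 3 = 0 ∨ i % 3 = 1 ∨ i % 3 = 2 by omega) with e | e | e <;> rw [e] at hi
  · rw [zpow_zero, eq_comm, conj_eq_one_iff] at hi
    rw [hi, mul_one, one_mul]
  · rw [zpow_one, eq_mul_inv_iff_mul_eq] at hi
    exact hi.symm
  · have hinv : n * (y : G) * n⁻¹ = (y : G)⁻¹ := by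
      rw [← hi, zpow_two]
      refine eq_inv_of_mul_eq_one_left ?_
      rw [← pow_two, ← pow_succ]
      exact orderOf_dvd_iff_pow_eq_one.1 hyo.dvd
    have hstep : ∀ j : ℕ, n ^ (2 * j) * (y : G) * (n ^ (2 * j))⁻¹ = y := by
      intro j
      induction j with
      | zero => simp
      | succ j ih =>
        calc n ^ (2 * (j + 1)) * (y : G) * (n ^ (2 * (j + 1)))⁻¹
            = n ^ (2 * j) * (n * (n * (y : G) * n⁻¹) * n⁻¹) * (n ^ (2 * j))⁻¹ := by
              rw [mul_add, pow_add, mul_one, pow_two]; group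
          _ = n ^ (2 * j) * (y : G) * (n ^ (2 * j))⁻¹ := by rw [hinv, ← conj_inv, hinv, inv_inv]
          _ = y := ih
    have hw : n ^ q * (y : G) * (n ^ q)⁻¹ = (y : G)⁻¹ := by
      obtain ⟨j, rfl⟩ := hq
      calc n ^ (2 * j + 1) * (y : G) * (n ^ (2 * j + 1))⁻¹
          = n * (n ^ (2 * j) * (y : G) * (n ^ (2 * j))⁻¹) * n⁻¹ := by rw [pow_succ']; group
        _ = (y : G)⁻¹ := by rw [hstep, hinv]
    have hc := hs.commute_of_pi (y := (y : G)) (by rw [hyo]; decide) (fun p hp hd' => by
      rw [Nat.card_zpowers, hyo, Nat.prime_dvd_prime_iff_eq hp (by norm_num)] at hd'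
      exact hd' ▸ h3) hq2 (pow_mem hn q)
    rw [hc, mul_inv_cancel_right] at hw
    have : orderOf (y : G) ∣ 2 := orderOf_dvd_of_pow_eq_one (by
      rw [pow_two]; exact mul_eq_one_iff_eq_inv.2 hw)
    rw [hyo] at this
    exact absurd this (by decide)

/-- `G` is not a two-dimensional projective special linear group over a field of odd order. -/
theorem false_of_psl {F : Type} [Field F] [Fintype F] (hodd : Odd (Fintype.card F))
    (hq : 3 < Fintype.card F) (h3 : 3 ∈ π) (h8 : ¬ 8 ∣ Nat.card G)
    (e : Matrix.ProjectiveSpecialLinearGroup (Fin 2) F ≃* G) : False := by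
  have h2F : (2 : F) ≠ 0 := Ring.two_ne_zero fun h =>
    Nat.not_even_iff_odd.2 hodd (Nat.even_iff.2 (FiniteField.even_card_of_char_two h))
  have mulval : ∀ A B : Matrix.SpecialLinearGroup (Fin 2) F, (A * B).1 = A.1 * B.1 := fun _ _ => rfl
  let φ : Matrix.SpecialLinearGroup (Fin 2) F →* G :=
    e.toMonoidHom.comp (QuotientGroup.mk' (center (Matrix.SpecialLinearGroup (Fin 2) F)))
  have hker : ∀ A : Matrix.SpecialLinearGroup (Fin 2) F, φ A = 1 →
      A.1 0 1 = 0 ∧ A.1 1 0 = 0 ∧ A.1 0 0 = A.1 1 1 := fun A hA => by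
    have h1 : A ∈ center (Matrix.SpecialLinearGroup (Fin 2) F) :=
      (QuotientGroup.eq_one_iff A).1 (e.map_eq_one_iff.1 hA)
    obtain ⟨r, -, hr⟩ := Matrix.SpecialLinearGroup.mem_center_iff.1 h1
    rw [← hr]
    simp
  have hneg : ∀ A B : Matrix.SpecialLinearGroup (Fin 2) F, A.1 = -B.1 → φ A = φ B := fun A B h => by
    refine congrArg e (QuotientGroup.eq.2 (Matrix.SpecialLinearGroup.mem_center_iff.2 ⟨-1, by simp, ?_⟩))
    rw [Matrix.SpecialLinearGroup.coe_mul, Matrix.SpecialLinearGroup.coe_inv, h, Matrix.adjugate_fin_two]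
    have hd := B.2
    rw [Matrix.det_fin_two] at hd
    ext i j
    fin_cases i <;> fin_cases j <;> simp [Matrix.mul_apply, Fin.sum_univ_two] <;>
      first | linear_combination hd | ring
  by_cases h3F : (3 : F) = 0
  · -- characteristic three
    haveI := Fact.mk (by norm_num : Nat.Prime 3)
    haveI : CharP F 3 := CharP.charP_iff_prime_eq_zero (by norm_num) |>.2 (by exact_mod_cast h3F)
    obtain ⟨f, -, hf⟩ := FiniteField.card F 3
    obtain ⟨r, hr, hrq, hr2⟩ : ∃ r : ℕ, r.Prime ∧ r ∣ Fintype.card F - 1 ∧ r ≠ 2 := by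
      by_contra hc
      push Not at hc
      have h1 := Nat.eq_prime_pow_of_unique_prime_dvd (p := 2) (n := Fintype.card F - 1) (by omega)
        fun {d} hd hdd => hc d hd hdd
      set k := (Fintype.card F - 1).primeFactorsList.length with hk
      have hcard := CfsgLib.Pres.two_mul_card_psl F h2F
      rw [Nat.card_congr e.toEquiv] at hcard
      rcases Nat.lt_or_ge k 3 with hk3 | hk3
      · have : (2 : ℕ) ^ k ≤ 2 ^ 2 := Nat.pow_le_pow_right (by norm_num) (by omega)
        have hf' : Fintype.card F ≤ 5 := by omega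
        have h45 : Fintype.card F = 5 := by
          obtain ⟨m, hm⟩ := hodd; omega
        rw [h45] at hf
        have : (3 : ℕ) ∣ 5 := hf ▸ dvd_pow_self 3 f.ne_zero
        omega
      · refine h8 ?_
        have h16 : 16 ∣ Fintype.card F * (Fintype.card F ^ 2 - 1) := by
          refine Dvd.dvd.mul_left ?_ _
          rw [show Fintype.card F ^ 2 - 1 = (Fintype.card F + 1) * (Fintype.card F - 1) from by
            simpa using Nat.sq_sub_sq (Fintype.card F) 1]
          obtain ⟨m, hm⟩ := hodd
          rw [show (16 : ℕ) = 2 * 2 ^ 3 by norm_num]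
          exact mul_dvd_mul ⟨m + 1, by omega⟩ (h1 ▸ pow_dvd_pow 2 hk3)
        rw [← hcard, show (16 : ℕ) = 2 * 8 by norm_num] at h16
        exact Nat.dvd_of_mul_dvd_mul_left (by norm_num) h16
    haveI := Fact.mk hr
    classical
    obtain ⟨lu, hlu⟩ := exists_prime_orderOf_dvd_card' (G := Fˣ) r
      (by rw [Nat.card_eq_fintype_card, Fintype.card_units]; exact hrq)
    set l : F := (lu : F) with hl
    have hl0 : l ≠ 0 := lu.ne_zero
    have hl2 : l * l ≠ 1 := fun h => by
      have : orderOf lu ∣ 2 := orderOf_dvd_of_pow_eq_one (Units.ext (by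
        rw [Units.val_pow_eq_pow_val, pow_two]; exact h))
      rw [hlu, Nat.prime_dvd_prime_iff_eq hr Nat.prime_two] at this
      exact hr2 this
    let uu : F → Matrix.SpecialLinearGroup (Fin 2) F := fun a =>
      ⟨!![1, a; 0, 1], by simp [Matrix.det_fin_two]⟩
    have huu : ∀ a b, uu a * uu b = uu (a + b) := fun a b => Subtype.ext (by
      rw [mulval]; simp [uu, Matrix.mul_fin_two, add_comm])
    have huu0 : uu 0 = 1 := Subtype.ext (by simp [uu, Matrix.one_fin_two])
    let ι : Multiplicative F →* G :=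
      { toFun := fun a => φ (uu (Multiplicative.toAdd a))
        map_one' := by rw [toAdd_one, huu0, map_one]
        map_mul' := fun a b => by rw [toAdd_mul, ← map_mul, huu] }
    set U := ι.range with hU
    have hU1 : φ (uu 1) ∈ U := ⟨Multiplicative.ofAdd 1, rfl⟩
    have hUne : U ≠ ⊥ := fun h => by
      rw [h, mem_bot] at hU1
      exact one_ne_zero (hker _ hU1).1
    have hUπ : PiSub π U := by
      intro q hq' hd
      obtain ⟨j, hj⟩ := IsPGroup.iff_card.1 (isPGroup_three_of_pow (V := U) (by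
        rintro _ ⟨a, rfl⟩
        rw [← map_pow, show a ^ 3 = 1 by
          rw [← ofAdd_toAdd a, ← ofAdd_nsmul, nsmul_eq_mul, Nat.cast_ofNat, h3F, zero_mul, ofAdd_zero],
          map_one]))
      rw [hj] at hd
      rw [(Nat.prime_dvd_prime_iff_eq hq' (by norm_num)).1 (hq'.dvd_of_dvd_pow hd)]
      exact h3
    let tt : Matrix.SpecialLinearGroup (Fin 2) F :=
      ⟨!![l, 0; 0, l⁻¹], by simp [Matrix.det_fin_two, hl0]⟩
    let ww : Matrix.SpecialLinearGroup (Fin 2) F :=
      ⟨!![0, 1; -1, 0], by simp [Matrix.det_fin_two]⟩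
    have htu : ∀ a, tt * uu a = uu (l * l * a) * tt := fun a => Subtype.ext (by
      simp only [mulval]
      simp only [tt, uu]
      ext i j
      fin_cases i <;> fin_cases j <;> simp [Matrix.mul_apply, Fin.sum_univ_two] <;> field_simp)
    have htN : φ tt ∈ normalizer (U : Set G) := by
      refine CfsgLib.Comp.map_conj_eq_iff.1 (eq_of_le_of_card_ge ?_
        (le_of_eq (card_map_of_injective (MulAut.conj (φ tt)).injective).symm))
      rintro _ ⟨_, ⟨a, rfl⟩, rfl⟩
      refine ⟨Multiplicative.ofAdd (l * l * Multiplicative.toAdd a), ?_⟩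
      show φ (uu (l * l * Multiplicative.toAdd a)) = φ tt * φ (uu (Multiplicative.toAdd a)) * (φ tt)⁻¹
      rw [← map_mul, htu, map_mul, mul_inv_cancel_right]
    have hwinv : φ ww * φ tt * (φ ww)⁻¹ = (φ tt)⁻¹ := by
      rw [mul_inv_eq_iff_eq_mul, eq_inv_mul_iff_mul_eq, ← map_mul, ← map_mul]
      refine congrArg φ (Subtype.ext ?_)
      simp only [mulval]
      simp only [tt, ww]
      ext i j
      fin_cases i <;> fin_cases j <;> simp [Matrix.mul_apply, Fin.sum_univ_two, hl0]
    have hwo : orderOf (φ ww) = 2 := by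
      refine orderOf_eq_prime ?_ fun h => ?_
      · rw [← map_pow, pow_two, ← map_one φ]
        exact hneg _ _ (by rw [mulval]; simp [ww, Matrix.mul_fin_two, Matrix.one_fin_two])
      · exact one_ne_zero (hker _ h).1
    have hto : orderOf (φ tt) ∣ r := by
      refine orderOf_dvd_of_pow_eq_one ?_
      have hpow : ∀ k : ℕ, (tt ^ k).1 = !![l ^ k, 0; 0, (l⁻¹) ^ k] := by
        intro k
        induction k with
        | zero => simp [Matrix.one_fin_two]
        | succ k ih =>
          rw [pow_succ, Matrix.SpecialLinearGroup.coe_mul, ih]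
          simp [tt, Matrix.mul_fin_two, pow_succ]
      rw [← map_pow, show tt ^ r = 1 from Subtype.ext (by
        rw [hpow, inv_pow, show l ^ r = 1 by
          rw [hl, ← Units.val_pow_eq_pow_val, ← hlu, pow_orderOf_eq_one, Units.val_one]]
        simp [Matrix.one_fin_two]), map_one]
    have htodd : Odd (orderOf (φ tt)) := (hr.odd_of_ne_two hr2).of_dvd_nat hto
    have hcomm := hs.hom U hUne hUπ (φ tt) htN (hs.pie_of_inverted htodd hwo hwinv) _ hU1
    rw [← map_mul, htu, map_mul, mul_one] at hcomm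
    have hd : φ ((uu 1)⁻¹ * uu (l * l)) = 1 := by
      rw [map_mul, map_inv, mul_right_cancel hcomm, inv_mul_cancel]
    rw [show (uu 1)⁻¹ = uu (-1) from inv_eq_of_mul_eq_one_right (by rw [huu, add_neg_cancel, huu0]),
      huu] at hd
    have := (hker _ hd).1
    simp only [uu, Matrix.of_apply, Matrix.cons_val', Matrix.cons_val_zero, Matrix.cons_val_one,
      Matrix.cons_val_fin_one] at this
    exact hl2 (by linear_combination this)
  · -- an element of order three inverted by an involution
    have hh : (2 : F) * (2 : F)⁻¹ = 1 := mul_inv_cancel₀ h2F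
    have hc34 : (1 - (2 : F)⁻¹ * (2 : F)⁻¹) ≠ 0 := fun h => h3F (by
      linear_combination (4 : F) * h + ((2 : F) * (2 : F)⁻¹ + 1) * hh)
    obtain ⟨a, b, hab⟩ := FiniteField.exists_root_sum_quadratic
      (f := Polynomial.X ^ 2 + Polynomial.C (1 : F))
      (g := Polynomial.C (1 - (2 : F)⁻¹ * (2 : F)⁻¹) * Polynomial.X ^ 2)
      (Polynomial.degree_X_pow_add_C (by norm_num) _)
      (Polynomial.degree_C_mul_X_pow 2 hc34) (Nat.odd_iff.1 hodd)
    simp only [Polynomial.eval_add, Polynomial.eval_pow, Polynomial.eval_X, Polynomial.eval_C,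
      Polynomial.eval_mul] at hab
    set x := a - b * (2 : F)⁻¹ with hx
    have hxy : x * x + x * b + b * b = -1 := by
      rw [hx]
      linear_combination hab + (b ^ 2 * (2 : F)⁻¹ - a * b) * hh
    let M : Matrix.SpecialLinearGroup (Fin 2) F := ⟨!![0, -1; 1, -1], by simp [Matrix.det_fin_two]⟩
    let N : Matrix.SpecialLinearGroup (Fin 2) F := ⟨!![x, b; x + b, -x], by
      rw [Matrix.det_fin_two_of]; linear_combination -hxy⟩
    have hM3 : M ^ 3 = 1 := Subtype.ext (by
      rw [pow_succ, pow_two, Matrix.SpecialLinearGroup.coe_mul, Matrix.SpecialLinearGroup.coe_mul]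
      simp [M, Matrix.mul_fin_two, Matrix.one_fin_two])
    have hyo : orderOf (φ M) = 3 := by
      haveI := Fact.mk (by norm_num : Nat.Prime 3)
      refine orderOf_eq_prime (by rw [← map_pow, hM3, map_one]) fun h => ?_
      have := (hker _ h).2.1
      simp [M] at this
    have huo : orderOf (φ N) = 2 := by
      refine orderOf_eq_prime ?_ fun h => ?_
      · rw [← map_pow, pow_two, ← map_one φ]
        refine hneg _ _ ?_
        simp only [mulval, Matrix.SpecialLinearGroup.coe_one]
        simp only [N]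
        ext i j
        fin_cases i <;> fin_cases j <;> simp [Matrix.mul_apply, Fin.sum_univ_two] <;>
          first | linear_combination hxy | ring
      · obtain ⟨h01, h10, h00⟩ := hker _ h
        simp only [N, Matrix.of_apply, Matrix.cons_val', Matrix.cons_val_zero, Matrix.cons_val_one,
          Matrix.cons_val_fin_one] at h01 h10
        have hx0 : x = 0 := by linear_combination h10 - h01
        rw [hx0, h01] at hxy
        simp at hxy
    refine hs.false_of_inverted_three h3 hyo huo ?_
    rw [mul_inv_eq_iff_eq_mul, eq_inv_mul_iff_mul_eq, ← map_mul, ← map_mul]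
    refine congrArg φ (Subtype.ext ?_)
    simp only [mulval]
    simp only [M, N]
    ext i j
    fin_cases i <;> fin_cases j <;> simp [Matrix.mul_apply, Fin.sum_univ_two] <;> ring

/-- The 2-rank of a minimal counterexample is not two, given the classification for dihedral type. -/
theorem false_of_rank_two (hGW : DihedralClassified.{u})
    (hrank : ∀ A : Subgroup G, Cfsg.IsElementaryAbelian 2 A → A ≤ (S : Subgroup G) → Nat.card A < 8) :
    False := by
  classical
  haveI := Fact.mk Nat.prime_two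
  haveI := hs.simple
  set E := omegaCenter (S : Subgroup G) with hE
  have hES : E ≤ (S : Subgroup G) := omegaCenter_le _
  have hsize : ∀ A : Subgroup G, Cfsg.IsElementaryAbelian 2 A → A ≤ (S : Subgroup G) →
      Nat.card A ≤ 4 := by
    intro A hA hAS
    have h := hrank A hA hAS
    obtain ⟨j, hj⟩ := IsPGroup.iff_card.1 (CfsgLib.Comp.isPGroup_of_elemAb hA)
    rw [hj] at h ⊢
    have : j ≤ 2 := by
      by_contra hc
      have : 2 ^ 3 ≤ 2 ^ j := Nat.pow_le_pow_right (by norm_num) (by omega)
      omega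
    calc 2 ^ j ≤ 2 ^ 2 := Nat.pow_le_pow_right (by norm_num) this
      _ = 4 := rfl
  have h4 : Nat.card E = 4 := le_antisymm (hsize E (omegaCenter_elemAb _) hES) (hs.four_le_omegaCenter S)
  have hinE : ∀ t ∈ (S : Subgroup G), orderOf t = 2 → t ∈ E := by
    intro t ht hto
    have hTe : Cfsg.IsElementaryAbelian 2 (zpowers t) :=
      ⟨inferInstance, fun a ha => by
        obtain ⟨i, rfl⟩ := ha
        dsimp only
        rw [← zpow_natCast, ← zpow_mul, mul_comm, zpow_mul, zpow_natCast, ← hto, pow_orderOf_eq_one,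
          one_zpow]⟩
    have h1 := hsize _ (elemAb_sup_omegaCenter hTe (zpowers_le.2 ht)) (sup_le (zpowers_le.2 ht) hES)
    have h2 : E = zpowers t ⊔ E := eq_of_le_of_card_ge le_sup_right (by rw [h4]; exact h1)
    rw [h2]
    exact mem_sup_left (mem_zpowers t)
  obtain ⟨⟨n, hn, htr⟩, h3⟩ := hs.three_cycle S h4
  -- the automorphism of `S` induced by `n`
  let ψ : MulAut ↥(S : Subgroup G) :=
    { toFun := fun s => ⟨n * s * n⁻¹, (mem_normalizer_iff.1 hn _).1 s.2⟩
      invFun := fun s => ⟨n⁻¹ * s * n, (mem_normalizer_iff''.1 hn _).1 s.2⟩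
      left_inv := fun s => Subtype.ext (by simp [mul_assoc])
      right_inv := fun s => Subtype.ext (by simp [mul_assoc])
      map_mul' := fun s t => Subtype.ext (by simp [mul_assoc]) }
  have hψ : ∀ (k : ℕ) (s : ↥(S : Subgroup G)), (((ψ ^ k) s : ↥(S : Subgroup G)) : G) =
      n ^ k * s * (n ^ k)⁻¹ := by
    intro k
    induction k with
    | zero => simp
    | succ k ih =>
      intro s
      rw [pow_succ, MulAut.mul_apply, ih]
      show n ^ k * (n * s * n⁻¹) * (n ^ k)⁻¹ = _
      rw [pow_succ]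
      group
  have htrS : ∀ s t : ↥(S : Subgroup G), orderOf s = 2 → orderOf t = 2 → ∃ k : ℕ, (ψ ^ k) s = t := by
    intro s t hs2 ht2
    rw [← Subgroup.orderOf_coe] at hs2 ht2
    obtain ⟨k, hk⟩ := htr _ (hinE _ s.2 hs2) (fun h => by rw [h, orderOf_one] at hs2; omega)
      _ (hinE _ t.2 ht2) (fun h => by rw [h, orderOf_one] at ht2; omega)
    exact ⟨k, Subtype.ext ((hψ k s).trans hk)⟩
  have hr2 : Cfsg.PRankLE 2 2 ↥(S : Subgroup G) := by
    intro A hA hA2
    have hA' : Cfsg.IsElementaryAbelian 2 (A.map (S : Subgroup G).subtype) := by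
      refine ⟨⟨⟨fun a b => Subtype.ext ?_⟩⟩, ?_⟩
      · obtain ⟨a', ha', hae⟩ := a.2
        obtain ⟨b', hb', hbe⟩ := b.2
        show (a : G) * b = b * a
        rw [← hae, ← hbe, ← map_mul, ← map_mul]
        exact congrArg _ (congrArg Subtype.val (hA.is_comm.comm ⟨a', ha'⟩ ⟨b', hb'⟩))
      · rintro _ ⟨a, ha, rfl⟩
        rw [← map_pow, hA2 a ha, map_one]
    have h := hsize _ hA' (map_subtype_le _)
    rwa [card_map_of_injective (S : Subgroup G).subtype_injective] at h
  have hr1 : ¬ Cfsg.PRankLE 2 1 ↥(S : Subgroup G) := by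
    intro h
    have := h (E.subgroupOf (S : Subgroup G)) ⟨⟨fun a b => Subtype.ext (Subtype.ext
      (congrArg Subtype.val ((omegaCenter_elemAb (S : Subgroup G)).1.is_comm.comm
        ⟨_, a.2⟩ ⟨_, b.2⟩) :))⟩⟩
      (fun a ha => Subtype.ext ((omegaCenter_elemAb (S : Subgroup G)).2 _ (mem_subgroupOf.1 ha)))
    rw [Nat.card_congr (subgroupOfEquivOfLe hES).toEquiv, h4] at this
    norm_num at this
  letI : Fintype (GaloisField 2 4) := Fintype.ofFinite _
  have hK : Fintype.card (GaloisField 2 4) = 16 := by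
    rw [← Nat.card_eq_fintype_card, GaloisField.card 2 4 (by norm_num)]; norm_num
  obtain ⟨P⟩ := (inferInstance : Nonempty (Sylow 2 (Cfsg.PSU 3 (GaloisField 2 4) 4)))
  rcases Cfsg.Agent.S1237.result S.isPGroup' hr2 hr1 ψ htrS hK P with ⟨m, hm, ⟨e⟩⟩ | hP
  · rcases Nat.lt_or_ge m 2 with hm2 | hm2
    · -- Klein four
      have hm1 : m = 1 := by omega
      subst hm1
      have hScard : Nat.card (S : Subgroup G) = 4 := by
        rw [Nat.card_congr e.toEquiv]; simp
      haveI : Nontrivial ↥(S : Subgroup G) := Finite.one_lt_card_iff_nontrivial.1 (by omega)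
      haveI : IsKleinFour ↥(S : Subgroup G) := by
        refine ⟨hScard, (Monoid.exponent_eq_prime_iff Nat.prime_two).2 fun g hg => ?_⟩
        refine orderOf_eq_prime (e.injective ?_) hg
        rw [map_pow, map_one]
        apply Multiplicative.toAdd.injective
        have key : ∀ z : ZMod (2 ^ 1) × ZMod (2 ^ 1), 2 • z = 0 := two_nsmul_zmod
        rw [toAdd_pow, toAdd_one]
        exact key _
      haveI : Group.IsPerfect G := ⟨CfsgLib.Transfer.commutator_eq_top_of_simple hs.noncomm⟩
      have hO : Cfsg.oddCore G = ⊥ :=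
        hs.eq_bot_of_normal (CfsgLib.Solvable.pPrimeCore_normal 2 G)
          (hs.ne_top_of_odd (CfsgLib.Invol.odd_card_oddCore G))
      haveI := CfsgLib.Solvable.pPrimeCore_normal 2 G
      let q : G ⧸ Cfsg.oddCore G ≃* G := (QuotientGroup.quotientMulEquivOfEq hO).trans QuotientGroup.quotientBot
      have h8 : ¬ 8 ∣ Nat.card G := fun h => by
        have h1 := (Sylow.card_eq_multiplicity S)
        rw [hScard] at h1
        have h2 := (Nat.prime_two.pow_dvd_iff_le_factorization (k := 3) Nat.card_pos.ne').1 (by simpa using h)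
        have h5 : (2 : ℕ) ^ (Nat.card G).factorization 2 = 2 ^ 2 := h1.symm
        have := Nat.pow_right_injective le_rfl h5
        omega
      rcases hGW G S 2 le_rfl IsKleinFour.nonempty_mulEquiv with ⟨F, iF, iFF, hFodd, hF3, ⟨f⟩⟩ | hf
      · exact hs.false_of_psl hFodd hF3 h3 h8 (f.symm.trans q)
      · obtain ⟨f⟩ := hf
        refine h8 ?_
        rw [Nat.card_congr (q.symm.trans f).toEquiv, nat_card_alternatingGroup, Nat.card_fin]
        decide
    · -- homocyclic
      have hO : ∀ N : Subgroup G, N.Normal → Odd (Nat.card N) → N = ⊥ := fun N hN ho =>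
        hs.eq_bot_of_normal hN (hs.ne_top_of_odd ho)
      obtain ⟨hn', -, -⟩ := Cfsg.Agent.S0949.result S m hm2 e hO
      exact hs.sylow_ne_bot S (hs.eq_bot_of_normal hn' (hs.ne_top_of_two S.isPGroup'))
  · obtain ⟨f⟩ := Cfsg.Agent.S0486.result (G := G) hK S P hP
    have hc : Nat.card G = 62400 := (Nat.card_congr f.toEquiv).trans
      (CfsgLib.Invol.UThreeFour.card_psu_four hK)
    exact hs.false_of_card_sylow_three h3 (by rw [hc]; norm_num) (by rw [hc]; norm_num)

end Setting

end CfsgLib.Invol.PiClosed
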