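import Cfsg.Agent.Lib.Invol.PiClosed.RankTwo
import Cfsg.Agent.Lib.Coprime.Complements

/-!
A `π`-homogeneous group whose `π`-subgroups are 2-closed is `π'`-closed.
-/

set_option autoImplicit false
set_option linter.style.haveILetI false
set_option linter.unusedVariables false
set_option linter.unusedSectionVars false

universe u

namespace CfsgLib.Invol.PiClosed

open Subgroup

variable {π : Set ℕ}

/-- Every `π`-subgroup has a normal Sylow 2-subgroup. -/
def TwoClosed (π : Set ℕ) (G : Type u) [Group G] : Prop :=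
  ∀ H : Subgroup G, PiSub π H → ∀ P : Sylow 2 ↥H, (P : Subgroup ↥H).Normal

/-- `π'`-elements normalizing a nontrivial `π`-subgroup centralize it. -/
def Homog (π : Set ℕ) (G : Type u) [Group G] : Prop :=
  ∀ H : Subgroup G, H ≠ ⊥ → PiSub π H → ∀ x ∈ normalizer (H : Set G), Pie π x → ∀ h ∈ H, x * h = h * x

theorem twoClosed_of_equiv {A B : Type u} [Group A] [Finite A] [Group B] [Finite B] (e : A ≃* B)
    (h : ∀ P : Sylow 2 A, (P : Subgroup A).Normal) (Q : Sylow 2 B) : (Q : Subgroup B).Normal := by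
  have h1 := h (Q.mapSurjective (f := e.symm.toMonoidHom) e.symm.surjective)
  have h2 : ((Q : Subgroup B).map e.symm.toMonoidHom).Normal := h1
  have h3 := h2.comap e.symm.toMonoidHom
  rwa [comap_map_eq_self_of_injective e.symm.injective] at h3

theorem exists_pie_pow {G K : Type u} [Group G] [Finite G] [Group K] (f : G →* K) (g : G)
    (hg : Pie π (f g)) : ∃ k : ℕ, f (g ^ k) = f g ∧ Pie π (g ^ k) := by
  induction hn : orderOf g using Nat.strong_induction_on generalizing g with
  | _ n ih =>
  subst hn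
  by_cases hp : Pie π g
  · exact ⟨1, by rw [pow_one], by rwa [pow_one]⟩
  unfold Pie at hp
  push Not at hp
  obtain ⟨p, hpp, hpd, hpπ⟩ := hp
  have hm : ¬ p ∣ orderOf (f g) := fun h => hg p hpp h hpπ
  have hcop : Nat.Coprime p (orderOf (f g)) := (Nat.Prime.coprime_iff_not_dvd hpp).2 hm
  obtain ⟨k, hk1, hk0⟩ := Nat.chineseRemainder hcop 0 1
  have hpk : p ∣ k := Nat.modEq_zero_iff_dvd.1 hk1
  have hf : f (g ^ k) = f g := by
    rw [map_pow]
    conv_rhs => rw [← pow_one (f g)]
    exact pow_eq_pow_iff_modEq.2 hk0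
  have hlt : orderOf (g ^ k) < orderOf g := by
    rw [orderOf_pow g]
    refine Nat.div_lt_self (orderOf_pos g) (lt_of_lt_of_le hpp.one_lt
      (Nat.le_of_dvd (Nat.gcd_pos_of_pos_left _ (orderOf_pos g)) (Nat.dvd_gcd hpd hpk)))
  obtain ⟨j, hj1, hj2⟩ := ih _ hlt (g ^ k) (by rw [hf]; exact hg) rfl
  exact ⟨k * j, by rw [pow_mul, hj1, hf], by rw [pow_mul]; exact hj2⟩

theorem pie_one {G : Type u} [Group G] : Pie π (1 : G) := fun p hp hd => by
  rw [orderOf_one] at hd; exact absurd hd hp.not_dvd_one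

theorem pie_of_card {G : Type u} [Group G] [Finite G] {K : Subgroup G}
    (hK : ∀ p : ℕ, p.Prime → p ∣ Nat.card K → p ∉ π) {x : G} (hx : x ∈ K) : Pie π x :=
  fun p hp hd => hK p hp (hd.trans (K.orderOf_dvd_natCard hx))

theorem card_prime_of_pie {G : Type u} [Group G] [Finite G] {K : Subgroup G}
    (hK : ∀ x ∈ K, Pie π x) {p : ℕ} (hp : p.Prime) (hd : p ∣ Nat.card K) : p ∉ π := by
  haveI := Fact.mk hp
  obtain ⟨x, hx⟩ := exists_prime_orderOf_dvd_card' p hd
  exact hK x x.2 p hp (by rw [Subgroup.orderOf_coe, hx])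

theorem card_comap_mk {G : Type u} [Group G] [Finite G] (N : Subgroup G) [N.Normal]
    (H : Subgroup (G ⧸ N)) :
    Nat.card (H.comap (QuotientGroup.mk' N)) = Nat.card N * Nat.card H := by
  have hN : N ≤ H.comap (QuotientGroup.mk' N) := fun x hx => by
    rw [mem_comap, QuotientGroup.mk'_apply, (QuotientGroup.eq_one_iff x).2 hx]; exact one_mem H
  have h1 := (N.subgroupOf (H.comap (QuotientGroup.mk' N))).card_mul_index
  rw [Nat.card_congr (subgroupOfEquivOfLe hN).toEquiv] at h1
  rw [← h1]
  congr 1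
  let f := (QuotientGroup.mk' N).subgroupComap H
  have hf : Function.Surjective f := by
    intro y
    obtain ⟨x, hx⟩ := QuotientGroup.mk'_surjective N y
    exact ⟨⟨x, by rw [mem_comap, hx]; exact y.2⟩, Subtype.ext hx⟩
  have hk : f.ker = N.subgroupOf (H.comap (QuotientGroup.mk' N)) := by
    ext x
    rw [MonoidHom.mem_ker, mem_subgroupOf, ← QuotientGroup.eq_one_iff, Subtype.ext_iff]
    rfl
  rw [← hk, index_ker, MonoidHom.range_eq_top.2 hf, card_top]

theorem closed_of_hom (hGW : DihedralClassified.{u}) (h2 : 2 ∈ π) : ∀ (G : Type u) [Group G] [Finite G],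
    TwoClosed π G → Homog π G → Closed π G := by
  intro G _ _
  induction hn : Nat.card G using Nat.strong_induction_on generalizing G with
  | _ n ih =>
  intro hcl hom
  subst hn
  have hprop : ∀ U : Subgroup G, U ≠ ⊤ → Closed π ↥U := by
    intro U hU
    refine ih _ (lt_of_le_of_ne (card_le_card_group U) fun h => hU (card_eq_iff_eq_top U |>.1 h)) ↥U rfl ?_ ?_
    · intro H hH P
      refine twoClosed_of_equiv (H.equivMapOfInjective U.subtype U.subtype_injective).symm (hcl _ ?_) P
      intro p hp hd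
      rw [card_map_of_injective U.subtype_injective] at hd
      exact hH p hp hd
    · intro H hH hπ x hx hxp h hh
      refine Subtype.ext (hom (H.map U.subtype)
        (fun e => hH ((map_eq_bot_iff_of_injective _ U.subtype_injective).1 e))
        (fun p hp hd => hπ p hp (by rwa [card_map_of_injective U.subtype_injective] at hd))
        x (le_normalizer_map U.subtype ⟨x, hx, rfl⟩) (pie_map U.subtype hxp) h ⟨h, hh, rfl⟩)
  by_cases hcomm : IsMulCommutative G
  · have hmul : ∀ a b : G, Pie π a → Pie π b → Pie π (a * b) := by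
      intro a b ha hb p hp hd
      rcases hp.dvd_mul.1 (hd.trans ((Commute.orderOf_mul_dvd_lcm (hcomm.is_comm.comm a b)).trans
        (Nat.lcm_dvd_mul _ _))) with h | h
      · exact ha p hp h
      · exact hb p hp h
    let K : Subgroup G :=
      { carrier := {x | Pie π x}
        one_mem' := pie_one
        mul_mem' := fun ha hb => hmul _ _ ha hb
        inv_mem' := fun {a} ha p hp hd => ha p hp (by rwa [orderOf_inv] at hd) }
    exact ⟨K, fun x => Iff.rfl⟩
  by_cases hsimple : ∀ N : Subgroup G, N.Normal → N = ⊥ ∨ N = ⊤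
  · exfalso
    haveI : Nontrivial G := by
      by_contra h
      rw [not_nontrivial_iff_subsingleton] at h
      exact hcomm ⟨⟨fun a b => Subsingleton.elim _ _⟩⟩
    have hs : Setting π G := ⟨h2, hcl, hom, ⟨hsimple⟩, hcomm, hprop⟩
    obtain ⟨S⟩ := (inferInstance : Nonempty (Sylow 2 G))
    by_cases hA : ∃ A : Subgroup G, Cfsg.IsElementaryAbelian 2 A ∧ A ≤ (S : Subgroup G) ∧ 8 ≤ Nat.card A
    · obtain ⟨A, h1, h2, h3⟩ := hA
      exact hs.false_of_rank S h1 h3 h2
    · exact hs.false_of_rank_two S hGW fun A h1 h2 => not_le.1 fun h3 => hA ⟨A, h1, h2, h3⟩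
  push Not at hsimple
  obtain ⟨N₀, hN₀, hN₀b, hN₀t⟩ := hsimple
  haveI := hN₀
  obtain ⟨K₀, hK₀⟩ := hprop N₀ hN₀t
  have hquot : ∀ (N : Subgroup G) [N.Normal], N ≠ ⊥ → TwoClosed π (G ⧸ N) → Homog π (G ⧸ N) →
      Closed π (G ⧸ N) := fun N _ hN h1 h3 => ih _ (by
    rw [card_eq_card_quotient_mul_card_subgroup N]
    exact lt_mul_of_one_lt_right Nat.card_pos ((one_lt_card_iff_ne_bot N).2 hN)) (G ⧸ N) rfl h1 h3
  by_cases hK₀b : K₀ = ⊥
  · -- a normal `π`-subgroup
    have hπN : PiSub π N₀ := by
      intro p hp hd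
      by_contra hpπ
      haveI := Fact.mk hp
      obtain ⟨x, hx⟩ := exists_prime_orderOf_dvd_card' p hd
      have : x ∈ K₀ := (hK₀ x).2 fun q hq hdq => by
        rw [hx] at hdq; rwa [(Nat.prime_dvd_prime_iff_eq hq hp).1 hdq]
      rw [hK₀b, mem_bot] at this
      rw [this, orderOf_one] at hx
      exact hp.ne_one hx.symm
    have hin : ∀ x : G, Pie π x → x ∈ centralizer (N₀ : Set G) := fun x hx =>
      mem_centralizer_iff.2 fun h hh =>
        (hom N₀ hN₀b hπN x (by rw [normalizer_eq_top]; exact mem_top _) hx h hh).symm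
    by_cases hC : centralizer (N₀ : Set G) = ⊤
    swap
    · obtain ⟨K, hK⟩ := hprop _ hC
      refine ⟨K.map (centralizer (N₀ : Set G)).subtype, fun x => ⟨?_, fun hx => ?_⟩⟩
      · rintro ⟨y, hy, rfl⟩
        exact pie_map _ ((hK y).1 hy)
      · refine ⟨⟨x, hin x hx⟩, (hK _).2 fun p hp hd => hx p hp (by rwa [Subgroup.orderOf_mk] at hd), rfl⟩
    have hcen : ∀ a : G, ∀ b ∈ N₀, b * a = a * b := fun a b hb =>
      mem_centralizer_iff.1 (hC ▸ mem_top a : a ∈ centralizer (N₀ : Set G)) b hb
    have hpre : ∀ H : Subgroup (G ⧸ N₀), PiSub π H → PiSub π (H.comap (QuotientGroup.mk' N₀)) := by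
      intro H hH p hp hd
      rw [card_comap_mk] at hd
      exact (hp.dvd_mul.1 hd).elim (hπN p hp) (hH p hp)
    obtain ⟨K, hK⟩ := hquot N₀ hN₀b (fun H hH P => by
        haveI := Fact.mk Nat.prime_two
        let f := (QuotientGroup.mk' N₀).subgroupComap H
        have hf : Function.Surjective f := by
          intro y
          obtain ⟨x, hx⟩ := QuotientGroup.mk'_surjective N₀ y
          exact ⟨⟨x, by rw [mem_comap, hx]; exact y.2⟩, Subtype.ext hx⟩
        obtain ⟨R, rfl⟩ := Sylow.mapSurjective_surjective hf 2 P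
        exact Subgroup.Normal.map (hcl _ (hpre H hH) R) f hf)
      (fun H hH hπ x hx hxp h hh => by
        obtain ⟨g, rfl⟩ := QuotientGroup.mk'_surjective N₀ x
        obtain ⟨k, hk, hkp⟩ := exists_pie_pow (QuotientGroup.mk' N₀) g hxp
        obtain ⟨a, rfl⟩ := QuotientGroup.mk'_surjective N₀ h
        rw [← hk, ← map_mul, ← map_mul, hom _ ?_ (hpre H hπ) (g ^ k) ?_ hkp a hh]
        · intro e
          refine hH (le_bot_iff.1 ?_)
          rw [← map_comap_eq_self_of_surjective (QuotientGroup.mk'_surjective N₀) H, e, Subgroup.map_bot]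
        · rw [← hk] at hx
          exact le_normalizer_comap (QuotientGroup.mk' N₀) (mem_comap.2 hx))
    set M := K.comap (QuotientGroup.mk' N₀) with hM
    have hKp : ∀ p : ℕ, p.Prime → p ∣ Nat.card K → p ∉ π := fun p hp hd =>
      card_prime_of_pie (fun x hx => (hK x).1 hx) hp hd
    have hNM : N₀ ≤ M := fun x hx => by
      rw [hM, mem_comap, QuotientGroup.mk'_apply, (QuotientGroup.eq_one_iff x).2 hx]; exact one_mem K
    have hidx : (N₀.subgroupOf M).index = Nat.card K := by
      have h1 := (N₀.subgroupOf M).card_mul_index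
      rw [Nat.card_congr (subgroupOfEquivOfLe hNM).toEquiv, hM, card_comap_mk] at h1
      exact Nat.eq_of_mul_eq_mul_left Nat.card_pos h1
    have hcop : Nat.Coprime (Nat.card (N₀.subgroupOf M)) (N₀.subgroupOf M).index := by
      rw [hidx, Nat.card_congr (subgroupOfEquivOfLe hNM).toEquiv]
      exact Nat.coprime_of_dvd fun p hp h1 h3 => hKp p hp h3 (hπN p hp h1)
    haveI : (N₀.subgroupOf M).Normal := hN₀.subgroupOf M
    obtain ⟨C, hCc⟩ := exists_left_complement'_of_coprime hcop
    have hCcard : Nat.card C = Nat.card K := by rw [← hidx, hCc.index_eq_card]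
    refine ⟨C.map M.subtype, fun x => ⟨?_, fun hx => ?_⟩⟩
    · intro hx
      refine pie_of_card (K := C.map M.subtype) (fun p hp hd => ?_) hx
      rw [card_map_of_injective M.subtype_injective, hCcard] at hd
      exact hKp p hp hd
    · have hxM : x ∈ M := mem_comap.2 ((hK _).2 (pie_map _ hx))
      obtain ⟨⟨⟨c, hc⟩, ⟨m, hm⟩⟩, hcm⟩ := hCc.2 ⟨x, hxM⟩
      have hcm' : (c : G) * (m : G) = x := congrArg Subtype.val hcm
      have hmN : (m : G) ∈ N₀ := mem_subgroupOf.1 hm
      have hcpow : (c : G) ^ Nat.card K = 1 := by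
        rw [← hCcard, ← SubmonoidClass.coe_pow,
          show c ^ Nat.card C = 1 from congrArg Subtype.val (pow_card_eq_one' (x := (⟨c, hc⟩ : C)))]
        rfl
      have hm1 : (m : G) = 1 := by
        rw [← orderOf_eq_one_iff, Nat.eq_one_iff_not_exists_prime_dvd]
        intro p hp hd
        have hpπ : p ∈ π := hπN p hp (hd.trans (N₀.orderOf_dvd_natCard hmN))
        have h1 : p ∣ orderOf ((m : G) ^ Nat.card K) := by
          rw [Nat.Coprime.orderOf_pow (Nat.coprime_of_dvd fun q hq a b =>
            hKp q hq b (hπN q hq (a.trans (N₀.orderOf_dvd_natCard hmN))))]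
          exact hd
        refine hx p hp (h1.trans ?_) hpπ
        rw [← hcm']
        have : ((c : G) * m) ^ Nat.card K = (m : G) ^ Nat.card K := by
          rw [(show Commute (c : G) m from (hcen _ _ hmN).symm).mul_pow, hcpow, one_mul]
        rw [← this]
        exact orderOf_pow_dvd _
      refine ⟨c, hc, ?_⟩
      rw [← hcm', hm1, mul_one]
      rfl
  · -- a normal `π'`-subgroup
    set N := K₀.map N₀.subtype with hNdef
    have hNp : ∀ x ∈ N, Pie π x := by
      rintro _ ⟨y, hy, rfl⟩; exact pie_map _ ((hK₀ y).1 hy)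
    haveI hNn : N.Normal := ⟨fun x hx g => by
      obtain ⟨y, hy, rfl⟩ := hx
      refine ⟨⟨g * (y : G) * g⁻¹, hN₀.conj_mem _ y.2 g⟩, (hK₀ _).2 fun p hp hd => ?_, rfl⟩
      rw [Subgroup.orderOf_mk] at hd
      exact pie_conj g (pie_map N₀.subtype ((hK₀ y).1 hy)) p hp hd⟩
    have hNcard : ∀ p : ℕ, p.Prime → p ∣ Nat.card N → p ∉ π := fun p hp hd => card_prime_of_pie hNp hp hd
    have hNs : Group.IsSolvable ↥N := Cfsg.Agent.S0205.result
      (Nat.not_even_iff_odd.1 fun he => hNcard 2 Nat.prime_two (even_iff_two_dvd.1 he) h2)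
    have hN1 : N ≠ ⊥ := fun e => hK₀b ((map_eq_bot_iff_of_injective _ N₀.subtype_injective).1 e)
    -- complements of `N` in preimages
    have hcompl : ∀ H : Subgroup (G ⧸ N), PiSub π H → ∃ X : Subgroup G, PiSub π X ∧
        N ⊔ X = H.comap (QuotientGroup.mk' N) ∧ Nonempty (↥X ≃* ↥H) := by
      intro H hH
      set Y := H.comap (QuotientGroup.mk' N) with hY
      have hNY : N ≤ Y := fun x hx => by
        rw [hY, mem_comap, QuotientGroup.mk'_apply, (QuotientGroup.eq_one_iff x).2 hx]; exact one_mem H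
      have hidx : (N.subgroupOf Y).index = Nat.card H := by
        have h1 := (N.subgroupOf Y).card_mul_index
        rw [Nat.card_congr (subgroupOfEquivOfLe hNY).toEquiv, hY, card_comap_mk] at h1
        exact Nat.eq_of_mul_eq_mul_left Nat.card_pos h1
      haveI : (N.subgroupOf Y).Normal := hNn.subgroupOf Y
      obtain ⟨C, hC⟩ := exists_left_complement'_of_coprime (N := N.subgroupOf Y) (by
        rw [hidx, Nat.card_congr (subgroupOfEquivOfLe hNY).toEquiv]
        exact Nat.coprime_of_dvd fun p hp h1 h3 => hNcard p hp h1 (hH p hp h3))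
      have hCc : Nat.card C = Nat.card H := by rw [← hidx, hC.index_eq_card]
      let f : ↥(C.map Y.subtype) →* ↥H :=
        ((QuotientGroup.mk' N).comp (C.map Y.subtype).subtype).codRestrict H fun x => by
          obtain ⟨y, hy, hyx⟩ := x.2
          have := mem_comap.1 y.2
          simpa [← hyx] using this
      have hf : Function.Bijective f := by
        refine (Nat.bijective_iff_injective_and_card f).2 ⟨(injective_iff_map_eq_one f).2 fun x hx => ?_, ?_⟩
        · obtain ⟨y, hy, hyx⟩ := x.2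
          have h1 : (x : G) ∈ N := (QuotientGroup.eq_one_iff _).1 (congrArg Subtype.val hx)
          have h3 : y ∈ C ⊓ N.subgroupOf Y := ⟨hy, mem_subgroupOf.2 (by rw [← hyx] at h1; exact h1)⟩
          rw [hC.disjoint.eq_bot, mem_bot] at h3
          exact Subtype.ext (by rw [← hyx, h3]; rfl)
        · rw [card_map_of_injective Y.subtype_injective, hCc]
      refine ⟨C.map Y.subtype, fun p hp hd => hH p hp (by
        rwa [card_map_of_injective Y.subtype_injective, hCc] at hd), ?_, ⟨MulEquiv.ofBijective f hf⟩⟩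
      have := congrArg (Subgroup.map Y.subtype) hC.sup_eq_top
      rwa [Subgroup.map_sup, ← MonoidHom.range_eq_map, Y.range_subtype, subgroupOf_map_subtype,
        inf_eq_left.2 hNY, sup_comm] at this
    obtain ⟨K, hK⟩ := hquot N hN1 (fun H hH P => by
        obtain ⟨X, hX, -, ⟨e⟩⟩ := hcompl H hH
        exact twoClosed_of_equiv e (hcl X hX) P)
      (fun H hH hπ x hx hxp h hh => by
        obtain ⟨g, rfl⟩ := QuotientGroup.mk'_surjective N x
        obtain ⟨X, hX, hXN, ⟨e⟩⟩ := hcompl H hπ
        have hgY : g ∈ normalizer ((N ⊔ X : Subgroup G) : Set G) := by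
          rw [hXN]; exact le_normalizer_comap (QuotientGroup.mk' N) (mem_comap.2 hx)
        set X' := X.map (MulAut.conj g).toMonoidHom with hX'
        have hsup : N ⊔ X' = N ⊔ X := by
          conv_rhs => rw [← (CfsgLib.Comp.map_conj_eq_iff.2 hgY)]
          rw [Subgroup.map_sup, CfsgLib.Comp.map_conj_eq_iff.2 (show g ∈ normalizer (N : Set G) by
            rw [normalizer_eq_top]; exact mem_top _)]
        have hcX : (Nat.card X).Coprime (Nat.card N) :=
          Nat.coprime_of_dvd fun p hp h1 h3 => hNcard p hp h3 (hX p hp h1)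
        obtain ⟨m, hm, hmX⟩ := CfsgLib.Coprime.exists_conj_eq_of_isSolvable_normal hNs hsup.symm hcX
          (by rwa [hX', card_map_of_injective (MulAut.conj g).injective])
        have hg'N : m⁻¹ * g ∈ normalizer (X : Set G) := by
          refine CfsgLib.Comp.map_conj_eq_iff.1 ?_
          rw [show (MulAut.conj (m⁻¹ * g)).toMonoidHom =
            (MulAut.conj m⁻¹).toMonoidHom.comp (MulAut.conj g).toMonoidHom by
              ext; simp [mul_assoc], ← Subgroup.map_map, ← hX', hmX, Subgroup.map_map]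
          convert Subgroup.map_id X
          ext; simp [mul_assoc]
        have him : QuotientGroup.mk' N (m⁻¹ * g) = QuotientGroup.mk' N g := by
          rw [map_mul, map_inv, show QuotientGroup.mk' N m = 1 from (QuotientGroup.eq_one_iff m).2 hm,
            inv_one, one_mul]
        obtain ⟨k, hk, hkp⟩ := exists_pie_pow (QuotientGroup.mk' N) (m⁻¹ * g) (by rw [him]; exact hxp)
        rw [him] at hk
        obtain ⟨a, rfl⟩ := QuotientGroup.mk'_surjective N h
        have ha : a ∈ N ⊔ X := by rw [hXN]; exact mem_comap.2 hh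
        obtain ⟨b, hb, c, hc, rfl⟩ := mem_sup_of_normal_left.1 ha
        rw [map_mul, show QuotientGroup.mk' N b = 1 from (QuotientGroup.eq_one_iff b).2 hb, one_mul,
          ← hk, ← map_mul, ← map_mul, hom X ?_ hX _ (pow_mem hg'N k) hkp c hc]
        intro e'
        refine hH (card_eq_one.1 ?_)
        rw [← Nat.card_congr e.toEquiv, e', card_bot])
    refine ⟨K.comap (QuotientGroup.mk' N), fun x => ⟨fun hx => ?_, fun hx => mem_comap.2 ((hK _).2 (pie_map _ hx))⟩⟩
    refine pie_of_card (K := K.comap (QuotientGroup.mk' N)) (fun p hp hd => ?_) hx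
    rw [card_comap_mk] at hd
    exact (hp.dvd_mul.1 hd).elim (hNcard p hp) (card_prime_of_pie (fun y hy => (hK y).1 hy) hp)

end CfsgLib.Invol.PiClosed
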